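import Cfsg.Agent.Lib.SpFourOdd96.Setting

/-!
Overgroups of the isometries commuting or anticommuting with a self-adjoint operator whose square is a non-square
scalar (the normalisers of `Sp₂(q²)`).
-/

set_option autoImplicit false

namespace Cfsg.Agent.Lib.SpFourOdd96

open Matrix

variable {F : Type*} [Field F]

local notation "I4" => Fin 2 ⊕ Fin 2
local notation "Vec" => Fin 2 ⊕ Fin 2 → F
local notation "GL4" => GL (Fin 2 ⊕ Fin 2) F

/-- The standing data. -/
structure Line (J : (I4 → F) →ₗ[F] (I4 → F)) (ε : F) (M : Subgroup (GL I4 F)) : Prop where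
  two : (2 : F) ≠ 0
  adj : ∀ x y, B (J x) y = B x (J y)
  alt : ∀ x, B x (J x) = 0
  sq : ∀ x, J (J x) = ε • x
  nsq : ∀ a : F, a * a ≠ ε
  le : M ≤ Cfsg.spGL 2 F
  semi : ∀ g ∈ Cfsg.spGL 2 F, Semi J g → g ∈ M

namespace Line

variable {J : (Fin 2 ⊕ Fin 2 → F) →ₗ[F] (Fin 2 ⊕ Fin 2 → F)} {ε : F}
  {M : Subgroup (GL (Fin 2 ⊕ Fin 2) F)}
variable (S : Line J ε M)
include S

theorem ne : ε ≠ 0 := fun h => S.nsq 0 (by rw [h, mul_zero])

theorem JJ (x y : Vec) : B (J x) (J y) = ε * B x y := by rw [S.adj, S.sq, map_smul, smul_eq_mul]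

theorem det_ne {a b : F} (h : ¬ (a = 0 ∧ b = 0)) : ε * (a * a) - b * b ≠ 0 := fun e => by
  rcases eq_or_ne a 0 with rfl | ha
  · exact h ⟨rfl, by simpa using e⟩
  · exact S.nsq (b / a) (by field_simp; linear_combination -e)

/-- The two kinds of root elements. -/
theorem root_mem (e : Vec) (t : F) : T (J e) t * T e (ε * t) ∈ M := by
  refine S.semi _ ((Cfsg.spGL 2 F).mul_mem (T_mem _ _) (T_mem _ _)) (Or.inl fun x => ?_)
  have h2 : B (J e) e = 0 := by rw [S.adj, S.alt]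
  simp only [act_mul, T_apply, map_add, map_smul, LinearMap.add_apply, LinearMap.smul_apply, smul_eq_mul,
    S.sq, S.JJ, S.adj x e, h2, S.alt e, B_self, mul_zero, add_zero]
  module

theorem N_mem (e : Vec) (t : F) : N e (J e) t ∈ M := by
  refine S.semi _ ((Cfsg.spGL 2 F).mul_mem (T_mem _ _) (T_mem _ _)) (Or.inl fun x => ?_)
  show act (N e (J e) t) (J x) = J (act (N e (J e) t) x)
  rw [N_apply (S.alt e), N_apply (S.alt e), map_sub, map_sub, map_smul, map_smul, S.sq, S.JJ, S.adj x e]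
  module

/-- Every non-zero vector is part of a frame. -/
theorem exists_frame {z : Vec} (hz : z ≠ 0) : ∃ y, B y z = 1 ∧ B y (J z) = 0 ∧
    LinearIndependent F ![z, J z, y, J y] ∧ ∀ v, ∃ a b c d : F, v = a • z + b • J z + c • y + d • J y := by
  obtain ⟨y₀, hy₀⟩ := exists_ne hz
  obtain ⟨α, hα⟩ : ∃ α, α = B y₀ z := ⟨_, rfl⟩
  obtain ⟨β, hβ⟩ : ∃ β, β = B y₀ (J z) := ⟨_, rfl⟩
  have hD := S.det_ne (a := α) (b := β) fun h => hy₀ (by rw [B_skew, ← hα, h.1, neg_zero])
  obtain ⟨D, hDd⟩ : ∃ D, D = ε * (α * α) - β * β := ⟨_, rfl⟩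
  rw [← hDd] at hD
  obtain ⟨y, hy⟩ : ∃ y, y = (ε * α / D) • y₀ + (-β / D) • J y₀ := ⟨_, rfl⟩
  have h1 : B y z = 1 := by
    simp only [hy, map_add, map_smul, LinearMap.add_apply, LinearMap.smul_apply, smul_eq_mul, S.adj, ← hα, ← hβ]
    field_simp
    rw [hDd]; ring
  have h2 : B y (J z) = 0 := by
    simp only [hy, map_add, map_smul, LinearMap.add_apply, LinearMap.smul_apply, smul_eq_mul, S.JJ, ← hα, ← hβ]
    ring
  have hli : LinearIndependent F ![z, J z, y, J y] := by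
    rw [Fintype.linearIndependent_iff]
    intro c hc
    simp only [Fin.sum_univ_four, Matrix.cons_val_zero, Matrix.cons_val_one, Matrix.cons_val] at hc
    have e0 := congrArg (fun v => B v z) hc
    have e1 := congrArg (fun v => B v (J z)) hc
    have e2 := congrArg (fun v => B v y) hc
    have e3 := congrArg (fun v => B v (J y)) hc
    have w1 : B z y = -1 := by rw [B_skew, h1]
    have w2 : B (J z) y = 0 := by rw [B_skew, h2, neg_zero]
    have w3 : B z (J y) = 0 := by rw [← S.adj, w2]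
    simp [h1, h2, w1, w2, w3, S.adj, S.sq, S.alt, S.ne] at e0 e1 e2 e3
    intro i
    fin_cases i <;> assumption
  refine ⟨y, h1, h2, hli, fun v => ?_⟩
  have htop := hli.span_eq_top_of_card_eq_finrank (by rw [Module.finrank_fintype_fun_eq_card]; rfl)
  have hv : v ∈ Submodule.span F (Set.range ![z, J z, y, J y]) := htop ▸ Submodule.mem_top
  obtain ⟨c, rfl⟩ := Submodule.mem_span_range_iff_exists_fun F |>.1 hv
  exact ⟨c 0, c 1, c 2, c 3, by simp [Fin.sum_univ_four]⟩

/-- An element that is not semilinear moves a line over the extension. -/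
theorem exists_moved {g : GL4} (hns : ¬ Semi J g) :
    ∃ x, x ≠ 0 ∧ ∀ a b : F, act g (J x) ≠ a • act g x + b • J (act g x) := by
  by_contra hcon
  push Not at hcon
  have hno : ∀ x : Vec, x ≠ 0 → ∀ a : F, J x ≠ a • x := fun x hx a h => by
    have := S.sq x
    rw [h, map_smul, h, smul_smul, ← sub_eq_zero, ← sub_smul, smul_eq_zero, or_iff_left hx] at this
    exact S.nsq a (sub_eq_zero.1 this)
  let J' : Vec →ₗ[F] Vec := act g⁻¹ ∘ₗ J ∘ₗ act g
  have hJ' : ∀ x, J' x = act g⁻¹ (J (act g x)) := fun x => rfl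
  have hcoef : ∀ x : Vec, ∃ a b : F, J' x = a • x + b • J x := fun x => by
    rcases eq_or_ne x 0 with rfl | hx
    · exact ⟨0, 0, by simp⟩
    obtain ⟨a, b, h⟩ := hcon x hx
    have hb : b ≠ 0 := fun h0 => hno x hx a (by
      have := congrArg (act g⁻¹) h
      simpa [h0, act_inv] using this)
    refine ⟨-(a / b), b⁻¹, ?_⟩
    have h' := congrArg (act g⁻¹) h
    rw [map_add, map_smul, map_smul, act_inv, act_inv, ← hJ'] at h'
    rw [h']
    match_scalars <;> field_simp <;> ring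
  obtain ⟨z, hz⟩ : ∃ z : Vec, z ≠ 0 := ⟨Pi.single (Sum.inl 0) 1, by simp⟩
  obtain ⟨y, -, -, hli, hspan⟩ := S.exists_frame hz
  obtain ⟨a1, b1, h1⟩ := hcoef z
  obtain ⟨a2, b2, h2⟩ := hcoef y
  obtain ⟨a3, b3, h3⟩ := hcoef (J z)
  obtain ⟨a4, b4, h4⟩ := hcoef (J y)
  obtain ⟨a5, b5, h5⟩ := hcoef (z + y)
  obtain ⟨a6, b6, h6⟩ := hcoef (J z + y)
  obtain ⟨a7, b7, h7⟩ := hcoef (z + J y)
  have get : ∀ c : Fin 4 → F, c 0 • z + c 1 • J z + c 2 • y + c 3 • J y = 0 → ∀ i, c i = 0 := fun c hc =>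
    Fintype.linearIndependent_iff.1 hli c (by simpa [Fin.sum_univ_four] using hc)
  rw [map_add, h1, h2, map_add J] at h5
  rw [map_add, h3, h2, map_add J, S.sq] at h6
  rw [map_add, h1, h4, map_add J, S.sq] at h7
  rw [S.sq] at h3 h4
  have g5 := get ![a1 - a5, b1 - b5, a2 - a5, b2 - b5] (by
    simp only [Matrix.cons_val_zero, Matrix.cons_val_one, Matrix.cons_val]
    linear_combination (norm := module) h5)
  have g6 := get ![ε * (b3 - b6), a3 - a6, a2 - a6, b2 - b6] (by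
    simp only [Matrix.cons_val_zero, Matrix.cons_val_one, Matrix.cons_val]
    linear_combination (norm := module) h6)
  have g7 := get ![a1 - a7, b1 - b7, ε * (b4 - b7), a4 - a7] (by
    simp only [Matrix.cons_val_zero, Matrix.cons_val_one, Matrix.cons_val]
    linear_combination (norm := module) h7)
  have p0 := g5 0; have p1 := g5 1; have p2 := g5 2; have p3 := g5 3
  have r0 := g6 0; have r1 := g6 1; have r2 := g6 2; have r3 := g6 3
  have s0 := g7 0; have s1 := g7 1; have s2 := g7 2; have s3 := g7 3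
  simp [S.ne, sub_eq_zero] at p0 p1 p2 p3 r0 r1 r2 r3 s0 s1 s2 s3
  have hall : ∀ v, J' v = a1 • v + b1 • J v := fun v => by
    obtain ⟨a, b, c, d, rfl⟩ := hspan v
    simp only [map_add, map_smul, h1, h2, h3, h4, S.sq]
    subst_vars
    module
  have hJJ : ∀ v, J' (J' v) = ε • v := fun v => by rw [hJ', hJ', act_inv', S.sq, map_smul, act_inv]
  have hzz := hJJ z
  simp only [hall, map_add, map_smul, S.sq] at hzz
  have gz := get ![a1 * a1 + ε * (b1 * b1) - ε, 2 * (a1 * b1), 0, 0] (by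
    simp only [Matrix.cons_val_zero, Matrix.cons_val_one, Matrix.cons_val]
    linear_combination (norm := module) hzz)
  have q0 := gz 0; have q1 := gz 1
  simp [S.two] at q0 q1
  have hb1 : b1 ≠ 0 := fun h => S.nsq a1 (by rw [h] at q0; linear_combination q0)
  have ha1 := q1.resolve_right hb1
  have hb2 : b1 * b1 = 1 := mul_left_cancel₀ S.ne (by rw [ha1] at q0; linear_combination q0)
  have hfin : ∀ v, J (act g v) = b1 • act g (J v) := fun v => by
    have h := congrArg (act g) (hall v)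
    rwa [hJ', act_inv', ha1, zero_smul, zero_add, map_smul] at h
  refine hns ?_
  rcases mul_self_eq_one_iff.1 hb2 with h | h
  · exact Or.inl fun v => by rw [hfin, h, one_smul]
  · exact Or.inr fun v => by rw [hfin, h, neg_one_smul, neg_neg]

/-- A transvection from a moved line. -/
theorem exists_transvection {g : GL4} (hg : g ∈ M) {x : Vec} (hx : x ≠ 0)
    (hmv : ∀ a b : F, act g (J x) ≠ a • act g x + b • J (act g x)) : ∃ z s, z ≠ 0 ∧ s ≠ 0 ∧ T z s ∈ M := by
  obtain ⟨z, hzd⟩ : ∃ z, z = act g x := ⟨_, rfl⟩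
  obtain ⟨w, hwd⟩ : ∃ w, w = act g (J x) := ⟨_, rfl⟩
  have hz : z ≠ 0 := hzd ▸ act_ne_zero g hx
  have hzw : B z w = 0 := by rw [hzd, hwd, mem_sp_iff.1 (S.le hg), S.alt]
  obtain ⟨δ, hδ⟩ : ∃ δ, δ = B (J z) w := ⟨_, rfl⟩
  have hδ0 : δ ≠ 0 := fun h => by
    obtain ⟨y, hy1, hy2, -, hspan⟩ := S.exists_frame hz
    obtain ⟨a, b, c, d, hv⟩ := hspan w
    refine hmv a b ?_
    have w1 : B z y = -1 := by rw [B_skew, hy1]
    have w2 : B (J z) y = 0 := by rw [B_skew, hy2, neg_zero]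
    have w3 : B z (J y) = 0 := by rw [← S.adj, w2]
    have hc : c = 0 := by
      have e := hzw
      rw [hv] at e
      simpa [w1, w3, S.alt] using e
    have hd : d = 0 := by
      have e := h.symm.trans hδ |>.symm
      rw [hv] at e
      simpa [w1, w2, S.JJ, S.adj (z) (z), S.alt, S.ne] using e
    rw [← hwd, hv, hc, hd, ← hzd]
    module
  obtain ⟨Bg, hBd⟩ : ∃ Bg, Bg = T w 1 * T z (ε * 1) := ⟨_, rfl⟩
  have hB : Bg ∈ M := by
    have h := M.mul_mem (M.mul_mem hg (S.root_mem x 1)) (M.inv_mem hg)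
    rwa [show g * (T (J x) 1 * T x (ε * 1)) * g⁻¹ = (g * T (J x) 1 * g⁻¹) * (g * T x (ε * 1) * g⁻¹) by group,
      T_conj (S.le hg), T_conj (S.le hg), ← hzd, ← hwd, ← hBd] at h
  have hJzz : B (J z) z = 0 := by rw [S.adj, S.alt]
  have hBz : act Bg z = z := by rw [hBd, act_mul, T_fix _ (B_self z), T_fix _ hzw]
  have hBJz : act Bg (J z) = J z + δ • w := by
    rw [hBd, act_mul, T_fix _ hJzz, T_apply, one_mul, ← hδ]
  have h1 := M.mul_mem (M.mul_mem hB (S.N_mem z 1)) (M.inv_mem hB)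
  rw [conj_N (S.le hB), hBz, hBJz] at h1
  have hb : B z (J z + δ • w) = 0 := by simp [S.alt, hzw]
  refine ⟨z, _, hz, ?_, commutator_mem (S.alt z) hb (S.N_mem z 1) h1⟩
  rw [map_add, LinearMap.add_apply, B_self, zero_add, map_smul, LinearMap.smul_apply, smul_eq_mul,
    B_skew w (J z), ← hδ, show (8 : F) = 2 * 2 * 2 by norm_num]
  have := S.two
  simp [this, hδ0]

/-- Transitivity on non-zero vectors. -/
theorem exists_move {x y : Vec} (hx : x ≠ 0) (hy : y ≠ 0) : ∃ g ∈ M, act g x = y := by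
  have step : ∀ x y : Vec, B x y ≠ 0 → ∃ g ∈ M, act g x = y := by
    intro x y hxy
    obtain ⟨X, hX⟩ : ∃ X, X = B x y := ⟨_, rfl⟩
    obtain ⟨Y, hY⟩ : ∃ Y, Y = B x (J y) := ⟨_, rfl⟩
    have hD := S.det_ne (a := X) (b := Y) fun h => hxy (hX ▸ h.1)
    obtain ⟨D, hDd⟩ : ∃ D, D = ε * (X * X) - Y * Y := ⟨_, rfl⟩
    rw [← hDd] at hD
    obtain ⟨u, hu⟩ : ∃ u, u = y - x := ⟨_, rfl⟩
    have hxu : B x u = X := by simp [hu, hX]
    have hxJu : B x (J u) = Y := by simp [hu, hY, S.alt]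
    refine ⟨T (J u) (X / D) * T u (ε * (X / D)) * N u (J u) (Y / (2 * D)),
      M.mul_mem (S.root_mem _ _) (S.N_mem _ _), ?_⟩
    rw [act_mul, act_mul, N_apply (S.alt u), hxu, hxJu, T_apply, T_apply]
    have hJuu : B (J u) u = 0 := by rw [S.adj, S.alt]
    simp only [map_add, map_sub, map_smul, LinearMap.add_apply, LinearMap.sub_apply, LinearMap.smul_apply,
      smul_eq_mul, hxu, hxJu, hJuu, S.alt, B_self]
    rw [show y = x + u by rw [hu]; module]
    have := S.two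
    match_scalars <;> field_simp <;> rw [hDd] <;> ring
  obtain ⟨a, ha⟩ := exists_ne hx
  obtain ⟨b, hb⟩ := exists_ne hy
  obtain ⟨z, hz1, hz2⟩ : ∃ z, B x z ≠ 0 ∧ B z y ≠ 0 := by
    by_cases h1 : B y a = 0
    · by_cases h2 : B x b = 0
      · refine ⟨a + b, by simpa [h2] using ha, ?_⟩
        rw [B_skew, map_add, h1, zero_add]; exact neg_ne_zero.2 hb
      · exact ⟨b, h2, by rw [B_skew]; simpa using hb⟩
    · exact ⟨a, ha, by rw [B_skew]; simpa using h1⟩
  obtain ⟨g, hg, hgx⟩ := step x z hz1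
  obtain ⟨k, hk, hkz⟩ := step z y hz2
  exact ⟨k * g, M.mul_mem hk hg, by rw [act_mul, hgx, hkz]⟩

/-- The overgroups. -/
theorem top {g : GL4} (hg : g ∈ M) (hns : ¬ Semi J g) : Cfsg.spGL 2 F ≤ M := by
  obtain ⟨x, hx, hmv⟩ := S.exists_moved hns
  obtain ⟨z, s, hz, hs, hT⟩ := S.exists_transvection hg hx hmv
  have hfull : Full M z := full_of_scaling S.two hs S.le hT fun l hl =>
    S.exists_move hz (smul_ne_zero hl hz)
  refine Cfsg.Agent.Lib.Subspaces.SympGen.spGL_le fun v a => ?_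
  rcases eq_or_ne v 0 with rfl | hv
  · show T (0 : Vec) a ∈ M
    rw [T_zero_left]; exact M.one_mem
  obtain ⟨k, hk, hkz⟩ := S.exists_move hz hv
  exact (hkz ▸ hfull.image S.le hk) a

end Line

end Cfsg.Agent.Lib.SpFourOdd96
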