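import Cfsg.Agent.Lib.SpFourOdd96.Setting
import Cfsg.Agent.Lib.DicksonId.TransvectionsExc

/-!
Two centres `y`, `a` and the subgroup of `SL₂` they generate.
-/

set_option autoImplicit false

namespace Cfsg.Agent.Lib.SpFourOdd96

open Matrix Cfsg.Agent.Lib.DicksonId Cfsg.Agent.Lib.Linear

variable {F : Type*} [Field F]

local notation "I4" => Fin 2 ⊕ Fin 2
local notation "Vec" => Fin 2 ⊕ Fin 2 → F
local notation "GL4" => GL (Fin 2 ⊕ Fin 2) F

/-- A two by two matrix on the plane of `p`, `p'` and trivial on its orthogonal. -/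
noncomputable def planeMap (p p' : I4 → F) (m : Matrix (Fin 2) (Fin 2) F) : (I4 → F) →ₗ[F] (I4 → F) :=
  LinearMap.id + ((-(m 0 0 - 1)) • B.flip p' + m 0 1 • B.flip p).smulRight p +
    ((-m 1 0) • B.flip p' + (m 1 1 - 1) • B.flip p).smulRight p'

theorem planeMap_apply (p p' : Vec) (m : Matrix (Fin 2) (Fin 2) F) (v : Vec) :
    planeMap p p' m v = v + (-(m 0 0 - 1) * B v p' + m 0 1 * B v p) • p +
      (-(m 1 0) * B v p' + (m 1 1 - 1) * B v p) • p' := rfl

theorem planeMap_one (p p' v : Vec) : planeMap p p' 1 v = v := by simp [planeMap_apply]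

theorem planeMap_mul {p p' : Vec} (h : B p p' = -1) (m n : Matrix (Fin 2) (Fin 2) F) (v : Vec) :
    planeMap p p' (m * n) v = planeMap p p' m (planeMap p p' n v) := by
  have h' : B p' p = 1 := by rw [B_skew, h, neg_neg]
  simp only [planeMap_apply, map_add, map_smul, LinearMap.add_apply, LinearMap.smul_apply, smul_eq_mul, h, h',
    B_self, Matrix.mul_apply, Fin.sum_univ_two]
  module

theorem planeMap_iso {p p' : Vec} (h : B p p' = -1) {m : Matrix (Fin 2) (Fin 2) F} (hm : m.det = 1) (u v : Vec) :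
    B (planeMap p p' m u) (planeMap p p' m v) = B u v := by
  rw [Matrix.det_fin_two] at hm
  have h' : B p' p = 1 := by rw [B_skew, h, neg_neg]
  simp only [planeMap_apply, map_add, map_smul, LinearMap.add_apply, LinearMap.smul_apply, smul_eq_mul, h, h',
    B_self, B_skew p v, B_skew p' v]
  linear_combination (B u p' * B v p - B u p * B v p') * hm

/-- An irrational product parameter gives an irrational transvection at a rational centre. -/
theorem irrational_of_pencil [Fintype F] {p : ℕ} [hp : Fact p.Prime] [CharP F p] (hp2 : p ≠ 2)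
    {M : Subgroup GL4} {y a : Vec} (hy : ∀ s : F, s = 1 → T y s ∈ M) (ha : T a (-1) ∈ M)
    {μ : F} (hμ : μ = B a y) (hμ0 : μ ≠ 0)
    (hexc : ¬ (p = 3 ∧ (μ * μ) * (μ * μ) = -1)) : T y (μ * μ) ∈ M := by
  classical
  obtain ⟨lam, hlam⟩ : ∃ lam, lam = μ * μ := ⟨_, rfl⟩
  have hlam0 : lam ≠ 0 := hlam ▸ mul_ne_zero hμ0 hμ0
  rw [← hlam] at hexc ⊢
  let F₁ : Subfield F := Subfield.closure {lam}
  haveI : Fintype F₁ := Fintype.ofFinite _
  haveI : CharP F₁ p := F₁.subtype.charP F₁.subtype.injective p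
  have h2 : (2 : F₁) ≠ 0 := two_ne_zero_of_char (p := p) hp2
  let l₁ : F₁ := ⟨lam, Subfield.subset_closure rfl⟩
  have hl₁ : l₁ ≠ 0 := fun h => hlam0 (congrArg Subtype.val h)
  have hgen : Subfield.closure ({l₁} : Set F₁) = ⊤ := by
    refine top_unique fun x _ => ?_
    have h : F₁ ≤ (Subfield.closure ({l₁} : Set F₁)).map F₁.subtype :=
      Subfield.closure_le.2 (by rintro _ rfl; exact ⟨l₁, Subfield.subset_closure rfl, rfl⟩)
    obtain ⟨z, hz, hzx⟩ := h x.2
    exact (Subtype.ext hzx : z = x) ▸ hz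
  obtain ⟨q, hq⟩ : ∃ q : Vec, q = μ⁻¹ • y := ⟨_, rfl⟩
  have hqa : B q a = -1 := by
    rw [hq, map_smul, LinearMap.smul_apply, B_skew, ← hμ, smul_eq_mul, mul_neg, inv_mul_cancel₀ hμ0]
  let D : Matrix.SpecialLinearGroup (Fin 2) F₁ → Vec →ₗ[F] Vec := fun m =>
    planeMap q a ((m : Matrix (Fin 2) (Fin 2) F₁).map F₁.subtype)
  have hD : ∀ m n v, D (m * n) v = D m (D n v) := fun m n v => by
    simp only [D, Matrix.SpecialLinearGroup.coe_mul, Matrix.map_mul, planeMap_mul hqa]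
  have hD1 : ∀ v, D 1 v = v := fun v => by
    simp only [D, Matrix.SpecialLinearGroup.coe_one, Matrix.map_one _ (map_zero _) (map_one _), planeMap_one]
  let K : Subgroup (Matrix.SpecialLinearGroup (Fin 2) F₁) :=
    { carrier := {m | ∃ h ∈ M, ∀ v, act h v = D m v}
      one_mem' := ⟨1, M.one_mem, fun v => by rw [act_one, hD1]⟩
      mul_mem' := fun {m n} ⟨h, hh, hm⟩ ⟨k, hk, hn⟩ => ⟨h * k, M.mul_mem hh hk, fun v => by
        rw [act_mul, hn, hm, hD]⟩
      inv_mem' := fun {m} ⟨h, hh, hm⟩ => ⟨h⁻¹, M.inv_mem hh, fun v => by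
        conv_lhs => rw [show v = D m (D m⁻¹ v) by rw [← hD, mul_inv_cancel, hD1]]
        rw [← hm, act_inv]⟩ }
  have hl : trLow ∈ K := ⟨_, ha, fun v => by
    rw [T_apply, show D trLow v = v + (-(1 : F) * B v a) • a by simp [D, planeMap_apply, trLow]]⟩
  have hu : trUp l₁ ∈ K := ⟨_, hy 1 rfl, fun v => by
    rw [T_apply, show D (trUp l₁) v = v + (lam * B v q) • q by simp [D, planeMap_apply, trUp, l₁], hq, map_smul,
      smul_eq_mul, smul_smul, hlam]
    congr 2
    field_simp⟩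
  have hsq : ∀ Z : F₁, ∀ m ∈ K, ((m : Matrix.SpecialLinearGroup (Fin 2) F₁) :
      Matrix.ProjectiveSpecialLinearGroup (Fin 2) F₁) = ((trUp Z : Matrix.SpecialLinearGroup (Fin 2) F₁) :
      Matrix.ProjectiveSpecialLinearGroup (Fin 2) F₁) → T q (2 * (Z : F)) ∈ M := by
    intro Z m hm hmZ
    obtain ⟨c, hc⟩ := (AutPSL.mk_eq_mk_iff _ _).mp hmZ
    have hd := congrArg Matrix.det hc
    rw [Matrix.det_smul, m.2, (trUp Z).2, Fintype.card_fin, mul_one] at hd
    have hcc : c * c = 1 := (pow_two c).symm.trans hd.symm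
    have hc' : (m : Matrix (Fin 2) (Fin 2) F₁) = c • ((trUp Z : Matrix.SpecialLinearGroup (Fin 2) F₁) :
        Matrix (Fin 2) (Fin 2) F₁) := by
      rw [hc, smul_smul, hcc, one_smul]
    have hmm : m * m = trUp (2 * Z) := by
      apply Subtype.ext
      rw [Matrix.SpecialLinearGroup.coe_mul, hc', Matrix.smul_mul, Matrix.mul_smul, smul_smul, hcc, one_smul]
      ext i j
      fin_cases i <;> fin_cases j <;> simp [Matrix.mul_apply, Fin.sum_univ_two, two_mul]
    obtain ⟨h, hh, hhv⟩ := hmm ▸ K.mul_mem hm hm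
    have e : h = T q (2 * (Z : F)) := act_ext fun v => by
      rw [hhv, T_apply]
      have e2 : ((2 : F₁) : F) = 2 := map_ofNat F₁.subtype 2
      simp [D, planeMap_apply, trUp, e2]
    exact e ▸ hh
  rcases trGen_cases (p := p) hp2 hl₁ hgen with htop | ⟨h3, he⟩
  · have hsub : trGen l₁ ≤ K.map (QuotientGroup.mk' _) := by
      rw [trGen, Subgroup.closure_le]
      rintro _ (rfl | rfl)
      · exact ⟨_, hl, rfl⟩
      · exact ⟨_, hu, rfl⟩
    rw [htop] at hsub
    obtain ⟨m, hm, hmZ⟩ := hsub (Subgroup.mem_top ((trUp (l₁ * l₁ / 2) :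
      Matrix.SpecialLinearGroup (Fin 2) F₁) : Matrix.ProjectiveSpecialLinearGroup (Fin 2) F₁))
    have h := hsq _ m hm hmZ
    rw [hq, T_smul] at h
    convert h using 2
    have h2F : (2 : F) ≠ 0 := fun e => h2 (Subtype.ext e)
    show lam = μ⁻¹ * μ⁻¹ * (2 * ((l₁ * l₁ / 2 : F₁) : F))
    have e2 : ((l₁ * l₁ / 2 : F₁) : F) = lam * lam / 2 := map_div₀ F₁.subtype (l₁ * l₁) 2 |>.trans (by
      rw [map_ofNat]; rfl)
    rw [e2, hlam]
    field_simp
  · exfalso
    subst h3
    exact hexc ⟨rfl, by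
      have := congrArg Subtype.val (exc_of_alt_five hl₁ hgen he).2
      simpa [pow_two, l₁] using this⟩

end Cfsg.Agent.Lib.SpFourOdd96
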