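import Cfsg.Agent.Lib.SpFourOdd96.Setting

/-!
Groups containing the isometries commuting or anticommuting with a skew operator `J` of square `ε ≠ 0`
(the stabilisers of two totally isotropic complementary planes, and the normalisers of hermitian structures).
-/

set_option autoImplicit false

namespace Cfsg.Agent.Lib.SpFourOdd96

open Matrix

variable {F : Type*} [Field F]

local notation "I4" => Fin 2 ⊕ Fin 2
local notation "Vec" => Fin 2 ⊕ Fin 2 → F
local notation "GL4" => GL (Fin 2 ⊕ Fin 2) F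

/-- The standing data. -/
structure Plane (J : (I4 → F) →ₗ[F] (I4 → F)) (ε : F) (M : Subgroup (GL I4 F)) : Prop where
  two : (2 : F) ≠ 0
  five : ∃ b : F, b ≠ 0 ∧ ε * (b * b) ≠ 1 ∧ ∃ l : F, l ≠ 0 ∧ l * l ≠ 1
  skew : ∀ x y, B (J x) y = -B x (J y)
  sq : ∀ x, J (J x) = ε • x
  ne : ε ≠ 0
  le : M ≤ Cfsg.spGL 2 F
  semi : ∀ g ∈ Cfsg.spGL 2 F, Semi J g → g ∈ M

namespace Plane

variable {J : (Fin 2 ⊕ Fin 2 → F) →ₗ[F] (Fin 2 ⊕ Fin 2 → F)} {ε : F}
  {M : Subgroup (GL (Fin 2 ⊕ Fin 2) F)}
variable (S : Plane J ε M)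
include S

theorem q_symm (x y : Vec) : B x (J y) = B y (J x) := by
  rw [B_skew x (J y), S.skew, neg_neg]

theorem JJ (x y : Vec) : B (J x) (J y) = -(ε * B x y) := by
  rw [S.skew, S.sq, map_smul, smul_eq_mul]

theorem semi_act {L : Vec →ₗ[F] Vec} (h : ∀ x y, B (L x) (L y) = B x y)
    (hs : (∀ x, L (J x) = J (L x)) ∨ ∀ x, L (J x) = -J (L x)) : ∃ g ∈ M, ∀ x, act g x = L x := by
  obtain ⟨g, hg, hgx⟩ := exists_act h
  exact ⟨g, S.semi g hg (hs.imp (fun h x => by rw [hgx, hgx, h]) fun h x => by rw [hgx, hgx, h]), hgx⟩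

/-- The root elements of the isotropic lines. -/
theorem root_mem {e : Vec} (he : B e (J e) = 0) (t : F) : T (J e) t * T e (-(ε * t)) ∈ M := by
  refine S.semi _ ((Cfsg.spGL 2 F).mul_mem (T_mem _ _) (T_mem _ _)) (Or.inl fun x => ?_)
  have h1 : B e e = 0 := B_self e
  have h2 : B (J e) e = 0 := by rw [S.skew, he, neg_zero]
  simp only [act_mul, T_apply, map_add, map_smul, LinearMap.add_apply, LinearMap.smul_apply, smul_eq_mul,
    S.sq, S.JJ, S.skew x e, h1, h2, he, B_self, mul_zero, add_zero]
  module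

/-- An element that is not semilinear moves an isotropic line off the isotropic points. -/
theorem exists_moved {g : GL4} (hg : g ∈ Cfsg.spGL 2 F) (hns : ¬ Semi J g) {e e' : Vec}
    (span : ∀ v, ∃ a b c d : F, v = a • e + b • J e + c • e' + d • J e')
    (he : B e (J e) = 0) (he' : B e' (J e') = 0) (hee : B e (J e') = 0) (hee' : B e e' = 1) :
    ∃ x, B x (J x) = 0 ∧ x ≠ 0 ∧ (∀ a : F, J x ≠ a • x) ∧ B (act g x) (J (act g x)) ≠ 0 := by
  obtain ⟨t, ht, ht1, -⟩ := S.five
  by_contra hcon
  push Not at hcon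
  have hq : ∀ x y, B (J x) (J (J y)) = -(ε * B x (J y)) := fun x y => S.JJ x (J y)
  have hne : ∀ {u : Vec}, (∃ w, B u w ≠ 0) → u ≠ 0 := fun ⟨w, hw⟩ h => hw (by simp [h])
  set β : Vec → Vec → F := fun v w => B (act g v) (J (act g w)) with hβ
  have βs : ∀ v w, β v w = β w v := fun v w => S.q_symm _ _
  -- the isotropic vectors with independent image under `J`
  have key : ∀ {x y : Vec}, B x (J x) = 0 → B x y ≠ 0 → B (J x) y = 0 →
      β x x = 0 ∧ β (J x) (J x) = 0 ∧ β x (J x) = 0 := by
    intro x y hx hxy hJxy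
    have good : ∀ a b : F, ¬ (a = 0 ∧ b = 0) → ε * (b * b) ≠ a * a → β (a • x + b • J x) (a • x + b • J x) = 0 := by
      intro a b hab hn
      set u := a • x + b • J x with hu
      have hu0 : B u (J u) = 0 := by
        simp [hu, S.sq, S.skew x x, hx, B_self, S.JJ]
      by_contra h
      refine absurd h (not_not.2 (hcon u hu0 ?_ fun c hc => ?_))
      · intro h0
        have h1 := congrArg (fun z => B z y) h0
        have h2 := congrArg (fun z => B (J z) y) h0
        simp [hu, hJxy, S.sq] at h1 h2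
        exact hab ⟨h1.resolve_right hxy, h2.resolve_right (by simp [S.ne, hxy])⟩
      · have h1 := congrArg (fun z => B z y) hc
        have h2 := congrArg (fun z => B (J z) y) hc
        simp [hu, hJxy, S.sq] at h1 h2
        refine hn (mul_right_cancel₀ hxy ?_)
        have h2' : a * B x y = c * (b * B x y) := mul_left_cancel₀ S.ne (by linear_combination h2)
        linear_combination b * h1 - a * h2'
    have h1 := good 1 0 (by simp) (by simp)
    have h2 := good 0 1 (by simp) (by simpa using S.ne)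
    simp only [one_smul, zero_smul, add_zero, zero_add] at h1 h2
    have h3 := good 1 t (by simp) (by simpa using ht1)
    have e3 : β ((1 : F) • x + t • J x) ((1 : F) • x + t • J x) = β x x + 2 * t * β x (J x) + t * t * β (J x) (J x) := by
      have := βs (J x) x
      simp only [hβ, map_add, map_smul, LinearMap.add_apply, LinearMap.smul_apply, smul_eq_mul] at this ⊢
      rw [this]; ring
    rw [e3, h1, h2, zero_add, mul_zero, add_zero] at h3
    exact ⟨h1, h2, (mul_eq_zero.1 h3).resolve_left (mul_ne_zero S.two ht)⟩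
  have hJee' : B (J e) e' = 0 := by rw [S.skew, hee, neg_zero]
  have he'e : B e' e = -1 := by rw [B_skew, hee']
  have hJe'e : B (J e') e = 0 := by rw [B_skew, hee, neg_zero]
  obtain ⟨a1, a2, a3⟩ := key he (by rw [hee']; exact one_ne_zero) hJee'
  obtain ⟨b1, b2, b3⟩ := key he' (by rw [he'e]; exact neg_ne_zero.2 one_ne_zero) hJe'e
  obtain ⟨c1, c2, c3⟩ := key (x := e + e') (y := e')
    (by simp [he, he', hee, S.q_symm e' e]) (by simp [hee', B_self]) (by
      simp [hJee', S.skew e' e', he'])
  simp only [hβ, map_add, LinearMap.add_apply] at a1 a2 a3 b1 b2 b3 c1 c2 c3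
  have s1 := βs e' e
  have s2 := βs (J e') (J e)
  have s3 := βs (J e') e'
  have s4 := βs (J e) e
  have s5 := βs (J e') e
  have s6 := βs (J e) e'
  simp only [hβ] at s1 s2 s3 s4 s5 s6
  rw [a1, b1, s1, zero_add, add_zero, ← two_mul] at c1
  rw [a2, b2, s2, zero_add, add_zero, ← two_mul] at c2
  rw [a3, b3, zero_add, add_zero] at c3
  have d1 := (mul_eq_zero.1 c1).resolve_left S.two
  have d2 := (mul_eq_zero.1 c2).resolve_left S.two
  obtain ⟨l, hlε⟩ : ∃ l, β e (J e') = ε * l := ⟨_, (mul_div_cancel₀ _ S.ne).symm⟩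
  have hprop : ∀ v w, β v w = l * B v (J w) := by
    intro v w
    obtain ⟨a, b, c, d, rfl⟩ := span v
    obtain ⟨a', b', c', d', rfl⟩ := span w
    have z1 : B e' (J e) = 0 := by rw [S.q_symm]; exact hee
    simp only [hβ] at hlε
    simp only [hβ, map_add, map_smul, LinearMap.add_apply, LinearMap.smul_apply, smul_eq_mul, S.sq, S.JJ,
      hq, s1, s2, s3, s4, s5, s6, a1, a2, a3, b1, b2, b3, d1, d2, B_self, he, he', hee, hee', z1, he'e,
      S.skew e e', S.skew e' e, S.skew e e, S.skew e' e']
    linear_combination (a * d' + a' * d) * hlε + (b * c' + b' * c) * c3 - (b * c' + b' * c) * hlε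
  -- the operator is preserved up to a factor
  have hJ : ∀ w, act g⁻¹ (J (act g w)) = l • J w := fun w => by
    refine sub_eq_zero.1 (B_nondeg fun v => ?_)
    rw [B_skew, map_sub, map_smul, smul_eq_mul, ← mem_sp_iff.1 hg v (act g⁻¹ (J (act g w))), act_inv']
    simp only [hβ] at hprop
    rw [hprop, sub_self, neg_zero]
  have hJ' : ∀ w, J (act g w) = l • act g (J w) := fun w => by
    rw [← act_inv' g (J (act g w)), hJ, map_smul]
  have hl2 : l * l = 1 := by
    have he0 : act g e ≠ 0 := act_ne_zero g (hne ⟨e', by rw [hee']; exact one_ne_zero⟩)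
    have h := S.sq (act g e)
    rw [hJ', map_smul, hJ', S.sq, map_smul, smul_smul, smul_smul, ← sub_eq_zero, ← sub_smul,
      smul_eq_zero, or_iff_left he0, sub_eq_zero] at h
    exact mul_right_cancel₀ S.ne (by linear_combination h)
  refine hns ?_
  rcases mul_self_eq_one_iff.1 hl2 with h | h
  · exact Or.inl fun x => by rw [hJ', h, one_smul]
  · exact Or.inr fun x => by rw [hJ', h, neg_one_smul, neg_neg]

/-- A transvection from a moved line. -/
theorem exists_transvection {g : GL4} (hgM : g ∈ M) {x : Vec} (hx : B x (J x) = 0) (hx0 : x ≠ 0)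
    (hxe : ∀ a : F, J x ≠ a • x) (hz : B (act g x) (J (act g x)) ≠ 0) :
    ∃ v s, v ≠ 0 ∧ s ≠ 0 ∧ T v s ∈ M := by
  obtain ⟨z, hzd⟩ : ∃ z, z = act g x := ⟨_, rfl⟩
  obtain ⟨w, hwd⟩ : ∃ w, w = act g (J x) := ⟨_, rfl⟩
  rw [← hzd] at hz
  have hzw : B z w = 0 := by rw [hzd, hwd, mem_sp_iff.1 (S.le hgM), hx]
  have hpair : ∀ t, T w t * T z (-ε * t) ∈ M := fun t => by
    have h := M.mul_mem (M.mul_mem hgM (S.root_mem hx t)) (M.inv_mem hgM)
    rwa [show g * (T (J x) t * T x (-(ε * t))) * g⁻¹ = (g * T (J x) t * g⁻¹) * (g * T x (-(ε * t)) * g⁻¹) by group,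
      T_conj (S.le hgM), T_conj (S.le hgM), ← hzd, ← hwd, ← neg_mul] at h
  obtain ⟨q, hq⟩ : ∃ q, q = B z (J z) := ⟨_, rfl⟩
  rw [← hq] at hz
  obtain ⟨μ, hμ⟩ : ∃ μ, μ = B w (J z) / q := ⟨_, rfl⟩
  obtain ⟨w₀, hw₀⟩ : ∃ w₀, w₀ = w - μ • z := ⟨_, rfl⟩
  have hw : w = w₀ + μ • z := by rw [hw₀]; module
  have hwz : B w z = 0 := by rw [B_skew, hzw, neg_zero]
  have h0z : B w₀ z = 0 := by simp [hw₀, hwz]
  have h0Jz : B w₀ (J z) = 0 := by
    simp only [hw₀, map_sub, map_smul, LinearMap.sub_apply, LinearMap.smul_apply, smul_eq_mul, ← hq, hμ,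
      div_mul_cancel₀ _ hz, sub_self]
  have hz0 : z ≠ 0 := by rw [hzd]; exact act_ne_zero g hx0
  have hw00 : w₀ ≠ 0 := fun h => by
    apply hxe μ
    have e := congrArg (act g⁻¹) (show w = μ • z by rw [hw, h, zero_add])
    rwa [map_smul, hwd, hzd, act_inv, act_inv] at e
  obtain ⟨b, hb, hb1, l, hl, hl2⟩ := S.five
  by_cases hnz : B w₀ (J w₀) ≠ 0
  · -- a rotation about `z` gives a second pair
    obtain ⟨n, hn⟩ : ∃ n, n = 1 - ε * (b * b) := ⟨_, rfl⟩
    have hn0 : n ≠ 0 := hn ▸ sub_ne_zero.2 hb1.symm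
    obtain ⟨α, hα⟩ : ∃ α, α = (1 + ε * (b * b)) / n := ⟨_, rfl⟩
    obtain ⟨β, hβ⟩ : ∃ β, β = 2 * b / n := ⟨_, rfl⟩
    have hβ0 : β ≠ 0 := hβ ▸ div_ne_zero (mul_ne_zero S.two hb) hn0
    have hαβ : α * α - ε * (β * β) = 1 := by
      rw [hα, hβ, div_mul_div_comm, div_mul_div_comm, mul_div, div_sub_div_same,
        div_eq_one_iff_eq (mul_ne_zero hn0 hn0), hn]
      ring
    let π : Vec →ₗ[F] Vec := q⁻¹ • ((B.flip (J z)).smulRight z - (B.flip z).smulRight (J z))
    have hπ : ∀ v, π v = q⁻¹ • (B v (J z) • z - B v z • J z) := fun v => rfl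
    let L : Vec →ₗ[F] Vec := π + (α • (LinearMap.id - π) + β • J ∘ₗ (LinearMap.id - π))
    have hL : ∀ v, L v = π v + (α • (v - π v) + β • J (v - π v)) := fun v => rfl
    have hπz : ∀ v, B (π v) z = B v z ∧ B (π v) (J z) = B v (J z) := fun v => by
      have hJzz : B (J z) z = -q := by rw [S.skew, hq]
      rw [hπ]
      simp only [map_smul, map_sub, LinearMap.smul_apply, LinearMap.sub_apply, smul_eq_mul, B_self, ← hq, hJzz]
      constructor <;> field_simp <;> ring
    have hπJ : ∀ v, π (J v) = J (π v) := fun v => by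
      rw [hπ, hπ, map_smul, map_sub, map_smul, map_smul, S.sq, S.JJ, S.skew v z]
      module
    have horth : ∀ u v, B (π u) (v - π v) = 0 := fun u v => by
      have h1 : B (v - π v) z = 0 := by rw [map_sub, LinearMap.sub_apply, (hπz v).1, sub_self]
      have h2 : B (v - π v) (J z) = 0 := by rw [map_sub, LinearMap.sub_apply, (hπz v).2, sub_self]
      rw [B_skew]
      generalize v - π v = r at h1 h2
      simp [hπ, h1, h2]
    have horth' : ∀ u v, B (π u) (J (v - π v)) = 0 := fun u v => by
      have := horth u (J v)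
      rwa [hπJ, ← map_sub] at this
    obtain ⟨c, hc, hcx⟩ := S.semi_act (L := L) (fun u v => by
      have e1 : B (u - π u) (π v) = 0 := by rw [B_skew, horth, neg_zero]
      have e2 : B (J (u - π u)) (π v) = 0 := by rw [B_skew, horth', neg_zero]
      have e : B u v = B (π u) (π v) + B (u - π u) (v - π v) := by
        conv_lhs => rw [← add_sub_cancel (π u) u, ← add_sub_cancel (π v) v]
        generalize u - π u = r at e1
        have o := horth u v
        generalize u - π u = r at e1
        generalize v - π v = r' at o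
        simp only [map_add, LinearMap.add_apply, e1, o]
        ring
      rw [e, hL, hL]
      have o1 := horth u v
      have o2 := horth' u v
      generalize u - π u = r at e1 e2
      generalize v - π v = r' at o1 o2
      simp only [map_add, map_smul, LinearMap.add_apply, LinearMap.smul_apply, smul_eq_mul, e1, e2, o1, o2,
        S.JJ, S.skew r r']
      linear_combination B r r' * hαβ)
      (Or.inl fun v => by
        simp only [hL, hπJ, map_add, map_smul, map_sub])
    have hcz : act c z = z := by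
      rw [hcx, hL]
      have : π z = z := by
        rw [hπ, B_self, zero_smul, sub_zero, smul_smul, ← hq, inv_mul_cancel₀ hz, one_smul]
      simp [this]
    have hcw : act c w = α • w₀ + β • J w₀ + μ • z := by
      have h0 : π w₀ = 0 := by rw [hπ, h0z, h0Jz]; simp
      rw [hw, map_add, map_smul, hcz, hcx, hL, h0]
      simp
    obtain ⟨s, hs, hT⟩ := pair_mem (a := w) (b := act c w) (k := -ε) (k' := -ε) S.le hzw
      (by conv_lhs => rw [← hcz]
          rw [mem_sp_iff.1 (S.le hc), hzw])
      (by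
        have h1 : B z w₀ = 0 := by rw [B_skew, h0z, neg_zero]
        have h2 : B z (J w₀) = 0 := by rw [S.q_symm, h0Jz]
        rw [hcw, hw]
        simp only [map_add, map_smul, LinearMap.add_apply, LinearMap.smul_apply, smul_eq_mul, B_self, h1, h2,
          h0z, mul_zero, add_zero, zero_add]
        exact mul_ne_zero hβ0 hnz) hpair
      (fun t => by
        have h := M.mul_mem (M.mul_mem hc (hpair t)) (M.inv_mem hc)
        rwa [show c * (T w t * T z (-ε * t)) * c⁻¹ = (c * T w t * c⁻¹) * (c * T z (-ε * t) * c⁻¹) by group,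
          T_conj (S.le hc), T_conj (S.le hc), hcz] at h) hl hl2
    exact ⟨w, s, fun h => hw00 (by
      rw [hw₀, h, zero_sub, neg_eq_zero, hμ, h, map_zero, LinearMap.zero_apply, zero_div, zero_smul]), hs, hT⟩
  · -- `w₀` is an eigenvector of `J`
    push Not at hnz
    obtain ⟨p, hp⟩ : ∃ p, p = w₀ := ⟨_, rfl⟩
    rw [← hp] at hnz h0z h0Jz hw00 hw
    have hJzz : B (J z) z = -q := by rw [S.skew, hq]
    have hJpz : B (J p) z = 0 := by rw [S.skew, h0Jz, neg_zero]
    have hJpJz : B (J p) (J z) = 0 := by rw [S.JJ, h0z, mul_zero, neg_zero]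
    obtain ⟨ρ, hρ⟩ : ∃ ρ : F, J p = ρ • p := by
      by_contra hno
      push Not at hno
      have hli : LinearIndependent F ![z, J z, p, J p] := by
        rw [Fintype.linearIndependent_iff]
        intro c hc
        simp only [Fin.sum_univ_four, Matrix.cons_val_zero, Matrix.cons_val_one, Matrix.cons_val] at hc
        have e1 := congrArg (fun u => B u z) hc
        have e2 := congrArg (fun u => B u (J z)) hc
        simp [hJzz, h0z, hJpz, hz] at e1
        simp [← hq, h0Jz, hJpJz, hz] at e2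
        rw [e1, e2, zero_smul, zero_smul, zero_add, zero_add] at hc
        have e3 : c 3 = 0 := by
          by_contra h3
          refine hno (-(c 2 / c 3)) ?_
          rw [neg_smul, div_eq_inv_mul, mul_smul]
          have : c 3 • J p = -(c 2 • p) := eq_neg_of_add_eq_zero_right hc
          rw [← smul_neg, ← this, inv_smul_smul₀ h3]
        rw [e3, zero_smul, add_zero, smul_eq_zero] at hc
        have e4 := hc.resolve_right hw00
        intro i
        fin_cases i <;> assumption
      have htop := hli.span_eq_top_of_card_eq_finrank (by rw [Module.finrank_fintype_fun_eq_card]; rfl)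
      refine hw00 (B_nondeg fun y => ?_)
      have hy : y ∈ Submodule.span F (Set.range ![z, J z, p, J p]) := htop ▸ Submodule.mem_top
      obtain ⟨c, rfl⟩ := Submodule.mem_span_range_iff_exists_fun F |>.1 hy
      simp [Fin.sum_univ_four, h0z, h0Jz, hnz]
    have hρ2 : ρ * ρ = ε := by
      have h := S.sq p
      rw [hρ, map_smul, hρ, smul_smul, ← sub_eq_zero, ← sub_smul, smul_eq_zero] at h
      exact sub_eq_zero.1 (h.resolve_right hw00)
    have hρ0 : ρ ≠ 0 := fun h => S.ne (by rw [← hρ2, h, zero_mul])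
    obtain ⟨p', hp'⟩ : ∃ p', p' = J z - ρ • z := ⟨_, rfl⟩
    have hpp' : B p p' = 0 := by simp [hp', h0Jz, h0z]
    have hJp' : J p' = -(ρ • p') := by
      rw [hp', map_sub, map_smul, S.sq, ← hρ2]
      module
    have hp'z : B p' z = -q := by simp [hp', hJzz]
    have hA : ∀ t, N p p' t ∈ M := by
      intro t
      have he : B (p + p') (J (p + p')) = 0 := by
        rw [show J (p + p') = ρ • p - ρ • p' by rw [map_add, hρ, hJp']; module]
        simp [hpp', B_skew p' p]
      have h := S.root_mem he (t / ε)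
      rwa [show J (p + p') = ρ • (p - p') by rw [map_add, hρ, hJp']; module, T_smul, hρ2,
        mul_div_cancel₀ _ S.ne] at h
    obtain ⟨Bg, hBd⟩ : ∃ Bg, Bg = T w 1 * T z (-ε * 1) := ⟨_, rfl⟩
    have hB : Bg ∈ M := hBd ▸ hpair 1
    have hpw : B p w = 0 := by simp [hw, h0z]
    have hBp : act Bg p = p := by rw [hBd, act_mul, T_fix _ h0z, T_fix _ hpw]
    obtain ⟨b, hb'⟩ : ∃ b, b = act Bg p' := ⟨_, rfl⟩
    have hbp : B p b = 0 := by
      rw [hb']
      conv_lhs => rw [← hBp]
      rw [mem_sp_iff.1 (S.le hB), hpp']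
    have hBA : N p b 1 ∈ M := by
      have h := M.mul_mem (M.mul_mem hB (hA 1)) (M.inv_mem hB)
      rwa [conj_N (S.le hB), hBp, ← hb'] at h
    have hp'w : B p' w = -(μ * q) := by
      have : B p' p = 0 := by rw [B_skew, hpp', neg_zero]
      simp [hw, this, hp'z]
    have hb : b = p' - (μ * q) • p + ((ε - μ * μ) * q) • z := by
      rw [hb', hBd, act_mul, T_apply, T_apply]
      simp only [map_add, map_smul, LinearMap.add_apply, LinearMap.smul_apply, smul_eq_mul, hp'w, hp'z, hzw]
      rw [hw]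
      module
    by_cases hμε : ε - μ * μ = 0
    · refine ⟨p, 4 * (μ * q), hw00, mul_ne_zero (by
        rw [show (4 : F) = 2 * 2 by norm_num]; exact mul_ne_zero S.two S.two)
        (mul_ne_zero (fun h => S.ne (by simpa [h] using hμε)) hz), ?_⟩
      have e : N p b 1 * (N p p' 1)⁻¹ = T p (4 * (μ * q)) := by
        rw [mul_inv_eq_iff_eq_mul]
        refine act_ext fun u => ?_
        rw [hμε, zero_mul, zero_smul, add_zero] at hb
        have hp'p : B p' p = 0 := by rw [B_skew, hpp', neg_zero]
        rw [act_mul, N_apply hbp, T_apply, N_apply hpp', hb]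
        simp only [map_sub, map_smul, LinearMap.sub_apply, LinearMap.smul_apply, smul_eq_mul, B_self, hp'p]
        module
      exact e ▸ M.mul_mem hBA (M.inv_mem (hA 1))
    · refine ⟨p, 8 * 1 * 1 * B b p', hw00, ?_, commutator_mem hpp' hbp (hA 1) hBA⟩
      have hbb : B b p' = (ε - μ * μ) * q * q := by
        have h1 : B z p' = q := by rw [B_skew, hp'z, neg_neg]
        simp [hb, hpp', h1]
      rw [hbb, show (8 : F) = 2 * 2 * 2 by norm_num]
      have := S.two
      simp [this, hμε, hz]

end Plane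

end Cfsg.Agent.Lib.SpFourOdd96
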