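import Cfsg.Agent.Lib.SpFourOdd96.Plane
import Mathlib.FieldTheory.Finite.Basic

/-!
Overgroups of the isometries commuting or anticommuting with a skew operator of square `ε ≠ 0`.
-/

set_option autoImplicit false

namespace Cfsg.Agent.Lib.SpFourOdd96

open Matrix

variable {F : Type*} [Field F]

local notation "I4" => Fin 2 ⊕ Fin 2
local notation "Vec" => Fin 2 ⊕ Fin 2 → F
local notation "GL4" => GL (Fin 2 ⊕ Fin 2) F

/-- An isotropic frame for `J`. -/
structure Frame (J : (I4 → F) →ₗ[F] (I4 → F)) (e e' : I4 → F) : Prop where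
  span : ∀ v, ∃ a b c d : F, v = a • e + b • J e + c • e' + d • J e'
  ee : B e (J e) = 0
  pp : B e' (J e') = 0
  ej : B e (J e') = 0
  ep : B e e' = 1

namespace Plane

variable {J : (Fin 2 ⊕ Fin 2 → F) →ₗ[F] (Fin 2 ⊕ Fin 2 → F)} {ε : F}
  {M : Subgroup (GL (Fin 2 ⊕ Fin 2) F)}
variable (S : Plane J ε M)
include S

theorem exists_frame [Fintype F] (hodd : Odd (Fintype.card F)) : ∃ e e', Frame J e e' := by
  have hpol : ∀ v w : Vec, B (v + w) (J (v + w)) = B v (J v) + 2 * B v (J w) + B w (J w) := fun v w => by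
    simp only [map_add, LinearMap.add_apply, S.q_symm w v]; ring
  have hJ0 : ∀ v : Vec, J v = 0 → v = 0 := fun v hv => by
    have := S.sq v
    rw [hv, map_zero, eq_comm, smul_eq_zero] at this
    exact this.resolve_left S.ne
  obtain ⟨z, hz⟩ : ∃ z, B z (J z) ≠ 0 := by
    by_contra h
    push Not at h
    have h1 : (Pi.single (Sum.inl 0) 1 : Vec) = 0 := hJ0 _ (B_nondeg fun w => by
      have := hpol w (Pi.single (Sum.inl 0) 1)
      rw [h, h, h, zero_add, add_zero, eq_comm] at this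
      rw [B_skew, (mul_eq_zero.1 this).resolve_left S.two, neg_zero])
    simpa using congrFun h1 (Sum.inl 0)
  obtain ⟨q, hq⟩ : ∃ q, q = B z (J z) := ⟨_, rfl⟩
  have hJzz : B (J z) z = -q := by rw [S.skew, hq]
  have hpi : ∀ v : Vec, ∃ a b : F, B (v - a • z - b • J z) z = 0 ∧ B (v - a • z - b • J z) (J z) = 0 := fun v => by
    have hz' : q ≠ 0 := hq ▸ hz
    refine ⟨B v (J z) / q, -(B v z) / q, ?_, ?_⟩ <;>
      simp only [map_sub, map_smul, LinearMap.sub_apply, LinearMap.smul_apply, smul_eq_mul, B_self, hJzz, ← hq] <;>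
      field_simp <;> ring
  obtain ⟨w, hw1, hw2, hw⟩ : ∃ w, B w z = 0 ∧ B w (J z) = 0 ∧ B w (J w) ≠ 0 := by
    by_contra hno
    push Not at hno
    have hzero : ∀ v w, B v z = 0 → B v (J z) = 0 → B w z = 0 → B w (J z) = 0 → B v (J w) = 0 := by
      intro v w a b c d
      have := hpol v w
      rw [hno v a b, hno w c d, hno (v + w) (by simp [a, c]) (by simp [b, d]), zero_add, add_zero, eq_comm] at this
      exact (mul_eq_zero.1 this).resolve_left S.two
    -- the whole space would be the plane of `z`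
    obtain ⟨v, hv, hv1, hv2⟩ : ∃ v : Vec, v ≠ 0 ∧ B v z = 0 ∧ B v (J z) = 0 := by
      let φ : Vec →ₗ[F] F × F := (B.flip z).prod (B.flip (J z))
      have h1 := LinearMap.finrank_range_add_finrank_ker φ
      rw [Module.finrank_fintype_fun_eq_card] at h1
      have h2 : Module.finrank F (LinearMap.range φ) ≤ 2 :=
        le_trans (Submodule.finrank_le _) (by rw [Module.finrank_prod, Module.finrank_self])
      obtain ⟨v, hv, hv0⟩ := Submodule.exists_mem_ne_zero_of_ne_bot (p := LinearMap.ker φ) (fun h => by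
        rw [h, finrank_bot] at h1; simp at h1; omega)
      have := LinearMap.mem_ker.1 hv
      exact ⟨v, hv0, congrArg Prod.fst this, congrArg Prod.snd this⟩
    refine hv (hJ0 v (B_nondeg fun u => ?_))
    obtain ⟨a, b, hu1, hu2⟩ := hpi u
    have h := hzero (u - a • z - b • J z) v hu1 hu2 hv1 hv2
    have e1 : B z (J v) = 0 := by rw [S.q_symm, hv2]
    simp only [map_sub, map_smul, LinearMap.sub_apply, LinearMap.smul_apply, smul_eq_mul, S.JJ, e1,
      show B z v = 0 by rw [B_skew, hv1, neg_zero]] at h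
    rw [B_skew]
    linear_combination -h
  obtain ⟨r, hr⟩ : ∃ r, r = B w (J w) := ⟨_, rfl⟩
  rw [← hr] at hw
  rw [← hq] at hz
  obtain ⟨x, y, hxy⟩ : ∃ x y : F, q * (x * x - ε * (y * y)) + r = 0 := by
    have hodd' : Fintype.card F % 2 = 1 := Nat.odd_iff.mp hodd
    obtain ⟨x, y, h⟩ := FiniteField.exists_root_sum_quadratic (f := Polynomial.C q * Polynomial.X ^ 2 + Polynomial.C r)
      (g := Polynomial.C (-(q * ε)) * Polynomial.X ^ 2)
      (by
        have h : (Polynomial.C q * Polynomial.X ^ 2).degree = 2 := by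
          rw [Polynomial.degree_C_mul hz, Polynomial.degree_X_pow]; rfl
        rw [Polynomial.degree_add_C (by rw [h]; norm_num), h])
      (by rw [Polynomial.degree_C_mul (neg_ne_zero.2 (mul_ne_zero hz S.ne)), Polynomial.degree_X_pow]; rfl)
      hodd'
    refine ⟨x, y, ?_⟩
    simp only [Polynomial.eval_add, Polynomial.eval_mul, Polynomial.eval_C, Polynomial.eval_pow, Polynomial.eval_X] at h
    linear_combination h
  obtain ⟨e, he⟩ : ∃ e, e = x • z + y • J z + w := ⟨_, rfl⟩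
  have hzw : B z w = 0 := by rw [B_skew, hw1, neg_zero]
  have hzJw : B z (J w) = 0 := by rw [S.q_symm, hw2]
  have hee : B e (J e) = 0 := by
    simp only [he, map_add, map_smul, LinearMap.add_apply, LinearMap.smul_apply, smul_eq_mul, S.sq, S.JJ,
      B_self, hJzz, ← hq, ← hr, hw1, hw2, hzw, hzJw, mul_zero, neg_zero, add_zero, zero_add]
    linear_combination hxy
  have hJzw : B (J z) w = 0 := by rw [S.skew, hzJw, neg_zero]
  have heJw : B e (J w) = r := by simp [he, hzJw, S.JJ, hzw, hr]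
  have hJeJw : B (J e) (J w) = 0 := by
    rw [S.JJ]
    simp [he, hzw, hJzw]
  obtain ⟨u, hu⟩ : ∃ u, u = r⁻¹ • J w := ⟨_, rfl⟩
  have heu : B e u = 1 := by rw [hu, map_smul, heJw, smul_eq_mul, inv_mul_cancel₀ hw]
  have hJeu : B (J e) u = 0 := by rw [hu, map_smul, hJeJw, smul_zero]
  obtain ⟨k, hk⟩ : ∃ k, k = B u (J u) / (2 * ε) := ⟨_, rfl⟩
  obtain ⟨e', he'⟩ : ∃ e', e' = u + k • J e := ⟨_, rfl⟩
  have hkk : 2 * ε * k = B u (J u) := by rw [hk, mul_div_cancel₀ _ (mul_ne_zero S.two S.ne)]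
  have h1 : B u e = -1 := by rw [B_skew, heu]
  have h3 : B e (J u) = 0 := by rw [← neg_eq_zero, ← S.skew, hJeu]
  have hep : B e e' = 1 := by simp [he', heu, hee]
  have hej : B e (J e') = 0 := by simp [he', h3, S.sq]
  have hpp : B e' (J e') = 0 := by
    simp only [he', map_add, map_smul, LinearMap.add_apply, LinearMap.smul_apply, smul_eq_mul, S.sq, S.JJ,
      h1, heu, S.skew e e, hee, B_self, mul_zero, neg_zero, add_zero]
    linear_combination -hkk
  refine ⟨e, e', ⟨?_, hee, hpp, hej, hep⟩⟩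
  have hJee : B (J e) e = 0 := by rw [S.skew, hee, neg_zero]
  have hJep : B (J e) e' = 0 := by rw [S.skew, hej, neg_zero]
  have hpe : B e' e = -1 := by rw [B_skew, hep]
  have hpJe : B e' (J e) = 0 := by rw [S.q_symm, hej]
  have hli : LinearIndependent F ![e, J e, e', J e'] := by
    rw [Fintype.linearIndependent_iff]
    intro c hc
    simp only [Fin.sum_univ_four, Matrix.cons_val_zero, Matrix.cons_val_one, Matrix.cons_val] at hc
    have e0 := congrArg (fun v => B v e') hc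
    have e1 := congrArg (fun v => B v (J e')) hc
    have e2 := congrArg (fun v => B v e) hc
    have e3 := congrArg (fun v => B v (J e)) hc
    simp [hep, hej, hJee, hJep, hpe, hpJe, hee, hpp, S.JJ, S.skew e' e, S.skew e' e', S.ne] at e0 e1 e2 e3
    intro i
    fin_cases i <;> assumption
  have htop := hli.span_eq_top_of_card_eq_finrank (by rw [Module.finrank_fintype_fun_eq_card]; rfl)
  intro v
  have hv : v ∈ Submodule.span F (Set.range ![e, J e, e', J e']) := htop ▸ Submodule.mem_top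
  obtain ⟨c, rfl⟩ := Submodule.mem_span_range_iff_exists_fun F |>.1 hv
  exact ⟨c 0, c 1, c 2, c 3, by simp [Fin.sum_univ_four]⟩

variable {e e' : Fin 2 ⊕ Fin 2 → F} (Φ : Frame J e e')
include Φ

theorem vals : B (J e) e = 0 ∧ B (J e') e' = 0 ∧ B e' e = -1 ∧ B e' (J e) = 0 ∧ B (J e) e' = 0 ∧
    B (J e') e = 0 := by
  refine ⟨?_, ?_, ?_, ?_, ?_, ?_⟩
  · rw [S.skew, Φ.ee, neg_zero]
  · rw [S.skew, Φ.pp, neg_zero]
  · rw [B_skew, Φ.ep]
  · rw [S.q_symm, Φ.ej]
  · rw [S.skew, Φ.ej, neg_zero]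
  · rw [B_skew, Φ.ej, neg_zero]

/-- The elements given on a frame. -/
theorem exists_map {L : Vec →ₗ[F] Vec} {σ : F} (hσ : σ = 1 ∨ σ = -1)
    (hJe : L (J e) = σ • J (L e)) (hJe' : L (J e') = σ • J (L e'))
    (h1 : B (L e) (J (L e)) = 0) (h2 : B (L e') (J (L e')) = 0) (h3 : B (L e) (J (L e')) = 0)
    (h4 : B (L e) (L e') = 1) : ∃ g ∈ M, ∀ x, act g x = L x := by
  obtain ⟨v1, v2, v3, v4, v5, v6⟩ := S.vals Φ
  have hσ2 : σ * σ = 1 := by rcases hσ with h | h <;> simp [h]
  have g3 : B (L e') (J (L e)) = 0 := by rw [S.q_symm, h3]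
  have g4 : B (L e') (L e) = -1 := by rw [B_skew, h4]
  refine S.semi_act (L := L) (fun u v => ?_) ?_
  · obtain ⟨a, b, c, d, rfl⟩ := Φ.span u
    obtain ⟨a', b', c', d', rfl⟩ := Φ.span v
    simp only [map_add, map_smul, LinearMap.add_apply, LinearMap.smul_apply, smul_eq_mul, hJe, hJe', S.JJ,
      S.skew (L e) (L e), S.skew (L e) (L e'), S.skew (L e') (L e), S.skew (L e') (L e'), h1, h2, h3, h4, g3, g4,
      B_self, Φ.ee, Φ.pp, Φ.ej, Φ.ep, v1, v2, v3, v4, v5, v6]
    linear_combination (ε * (b' * d - b * d')) * hσ2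
  · have hsq : ∀ x, L (J x) = σ • J (L x) := fun x => by
      obtain ⟨a, b, c, d, rfl⟩ := Φ.span x
      simp only [map_add, map_smul, hJe, hJe', S.sq, smul_smul, smul_add]
      match_scalars <;> first | ring1 | linear_combination (b * ε) * hσ2 | linear_combination (-(b * ε)) * hσ2 | linear_combination (d * ε) * hσ2 | linear_combination (-(d * ε)) * hσ2
    rcases hσ with h | h
    · exact Or.inl fun x => by rw [hsq, h, one_smul]
    · exact Or.inr fun x => by rw [hsq, h, neg_one_smul]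

/-- The multiplications on the two planes. -/
theorem exists_mult {α β : F} (hn : α * α - ε * (β * β) ≠ 0) {σ : F} (hσ : σ = 1 ∨ σ = -1) :
    ∃ g ∈ M, act g e = α • e + β • J e ∧
      act g e' = (α * α - ε * (β * β))⁻¹ • (α • e' + β • J e') ∧ act g (J e) = σ • J (α • e + β • J e) ∧
      act g (J e') = σ • J ((α * α - ε * (β * β))⁻¹ • (α • e' + β • J e')) := by
  obtain ⟨v1, v2, v3, v4, v5, v6⟩ := S.vals Φ
  obtain ⟨n, hnd⟩ : ∃ n, n = α * α - ε * (β * β) := ⟨_, rfl⟩
  rw [← hnd] at hn ⊢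
  let e1 := α • e + β • J e
  let e2 := n⁻¹ • (α • e' + β • J e')
  let L : Vec →ₗ[F] Vec := (B.flip e').smulRight e1 + (-ε⁻¹ • B.flip (J e')).smulRight (σ • J e1) +
    (B e).smulRight e2 + (-ε⁻¹ • B (J e)).smulRight (σ • J e2)
  have hL : ∀ v, L v = B v e' • e1 + (-ε⁻¹ * B v (J e')) • (σ • J e1) + B e v • e2 +
      (-ε⁻¹ * B (J e) v) • (σ • J e2) := fun v => rfl
  have l1 : L e = e1 := by simp [hL, Φ.ej, Φ.ep, v1]
  have l2 : L e' = e2 := by simp [hL, Φ.pp, Φ.ep, v5]
  have l3 : L (J e) = σ • J e1 := by simp [hL, Φ.ee, v5, S.JJ, Φ.ep, S.ne]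
  have l4 : L (J e') = σ • J e2 := by simp [hL, v2, Φ.ej, S.JJ, Φ.ep, S.ne]
  obtain ⟨g, hg, hgx⟩ := S.exists_map Φ (L := L) hσ (by rw [l1, l3]) (by rw [l2, l4])
    (by rw [l1]; simp [e1, S.sq, S.JJ, Φ.ee, v1])
    (by rw [l2]; simp [e2, S.sq, S.JJ, Φ.pp, v2])
    (by rw [l1, l2]; simp [e1, e2, S.sq, S.JJ, Φ.ej, Φ.ep, v5]; ring)
    (by
      rw [l1, l2]
      simp only [e1, e2, map_add, map_smul, LinearMap.add_apply, LinearMap.smul_apply, smul_eq_mul, Φ.ej,
        Φ.ep, v5, S.JJ]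
      field_simp
      rw [hnd]; ring)
  exact ⟨g, hg, by rw [hgx, l1], by rw [hgx, l2], by rw [hgx, l3], by rw [hgx, l4]⟩

/-- The shear along the plane of `e'`. -/
theorem root_apply (t a b c d : F) : ∃ g ∈ M, act g (a • e + b • J e + c • e' + d • J e') =
    a • e + b • J e + (c - ε * t * a) • e' + (d - ε * t * b) • J e' := by
  obtain ⟨v1, v2, v3, v4, v5, v6⟩ := S.vals Φ
  refine ⟨_, S.root_mem Φ.pp t, ?_⟩
  simp only [act_mul, T_apply, map_add, map_smul, LinearMap.add_apply, LinearMap.smul_apply, smul_eq_mul,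
    S.JJ, Φ.ee, Φ.pp, Φ.ej, Φ.ep, v1, v2, v3, v4, v5, v6, B_self]
  module

/-- One transvection gives the transvections at `e`. -/
theorem full_e {v : Vec} (hv : v ≠ 0) {s : F} (hs : s ≠ 0) (hT : T v s ∈ M) : Full M e := by
  obtain ⟨v1, v2, v3, v4, v5, v6⟩ := S.vals Φ
  have hscale : ∀ l : F, l ≠ 0 → ∃ h ∈ M, act h e = l • e := fun l hl => by
    obtain ⟨g, hg, hge, -⟩ := S.exists_mult Φ (α := l) (β := 0)
      (by simpa using hl) (σ := 1) (Or.inl rfl)
    exact ⟨g, hg, by rw [hge, zero_smul, add_zero]⟩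
  -- a centre with non-vanishing invariant
  have main : ∀ {v : Vec} {s : F}, s ≠ 0 → T v s ∈ M → ∀ a b c d : F,
      v = a • e + b • J e + c • e' + d • J e' → ε * (d * d) - c * c ≠ 0 → Full M e := by
    intro v s hs hT a b c d hv hΦ
    obtain ⟨k, hk⟩ : ∃ k, k = B v (J e) • J e - (ε * B v e) • e := ⟨_, rfl⟩
    obtain ⟨N, hN⟩ : ∃ N, N = B v (J e) * B v (J e) - ε * (B v e * B v e) := ⟨_, rfl⟩
    have hve : B v e = -c := by simp [hv, v1, v3, v6]
    have hvJe : B v (J e) = ε * d := by simp [hv, v4, Φ.ee, S.JJ, v3]; ring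
    have hN0 : N ≠ 0 := by
      rw [hN, hve, hvJe]
      intro h
      exact mul_ne_zero S.ne hΦ (by linear_combination h)
    obtain ⟨t, ht⟩ : ∃ t, t = (s * N)⁻¹ := ⟨_, rfl⟩
    have ht0 : t ≠ 0 := ht ▸ inv_ne_zero (mul_ne_zero hs hN0)
    have hR := S.root_mem Φ.ee t
    have hRv : act (T (J e) t * T e (-(ε * t))) v = v + t • k := by
      rw [act_mul, T_apply, T_apply, hk]
      simp only [map_add, map_smul, LinearMap.add_apply, LinearMap.smul_apply, smul_eq_mul, Φ.ee]
      module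
    have h1 : T (v + t • k) s ∈ M := by
      rw [← hRv, ← T_conj (S.le hR)]
      exact M.mul_mem (M.mul_mem hR hT) (M.inv_mem hR)
    have hkv : B k v = -N := by
      rw [hk, hN]
      simp [B_skew (J e) v, B_skew e v]
      ring
    have h2 := M.mul_mem (M.mul_mem hT h1) (M.inv_mem hT)
    rw [T_conj (S.le hT), T_apply, map_add, map_smul, LinearMap.add_apply, B_self, zero_add,
      LinearMap.smul_apply, hkv, smul_eq_mul,
      show s * (t * -N) = -1 by rw [ht]; field_simp, show v + t • k + (-1 : F) • v = t • k by module,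
      T_smul] at h2
    -- back to `e`
    obtain ⟨g, hg, hge, -⟩ := S.exists_mult Φ (α := -(ε * B v e)) (β := B v (J e))
      (by rw [hve, hvJe]; intro h; exact mul_ne_zero (mul_ne_zero S.ne S.ne) hΦ (by linear_combination -h))
      (σ := 1) (Or.inl rfl)
    rw [show -(ε * B v e) • e + B v (J e) • J e = k by rw [hk]; module] at hge
    have h3 := M.mul_mem (M.mul_mem (M.inv_mem hg) h2) hg
    have e3 : g⁻¹ * T k (t * t * s) * g = T e (t * t * s) := by
      rw [← hge, ← T_conj (S.le hg)]; group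
    rw [e3] at h3
    exact full_of_scaling S.two (mul_ne_zero (mul_ne_zero ht0 ht0) hs) S.le h3 hscale
  obtain ⟨a, b, c, d, hvd⟩ := Φ.span v
  by_cases hΦ : ε * (d * d) - c * c = 0
  swap
  · exact main hs hT a b c d hvd hΦ
  by_cases hmov : ∀ t : F, ε * ((d - ε * t * b) * (d - ε * t * b)) - (c - ε * t * a) * (c - ε * t * a) = 0
  swap
  · push Not at hmov
    obtain ⟨t, ht⟩ := hmov
    obtain ⟨g, hg, hgv⟩ := S.root_apply Φ t a b c d
    rw [← hvd] at hgv
    refine main hs ?_ _ _ _ _ hgv ht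
    rw [← T_conj (S.le hg)]
    exact M.mul_mem (M.mul_mem hg hT) (M.inv_mem hg)
  -- an eigenvector
  have m1 := hmov 1
  have m2 := hmov (-1)
  have q1 : a * c - ε * (b * d) = 0 := (mul_eq_zero.1 (show (2 * (2 * ε)) * (a * c - ε * (b * d)) = 0 by
    linear_combination m1 - m2)).resolve_left (mul_ne_zero S.two (mul_ne_zero S.two S.ne))
  have q2 : ε * (b * b) - a * a = 0 := (mul_eq_zero.1 (show (2 * (ε * ε)) * (ε * (b * b) - a * a) = 0 by
    linear_combination m1 + m2 - 2 * hΦ)).resolve_left (mul_ne_zero S.two (mul_ne_zero S.ne S.ne))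
  obtain ⟨ρ, hρ, ha, hc⟩ : ∃ ρ : F, ρ * ρ = ε ∧ a = ρ * b ∧ c = ρ * d := by
    by_cases hb : b = 0
    · have ha : a = 0 := by simpa [hb] using q2
      by_cases hd : d = 0
      · exact absurd (show v = 0 by
          have hc : c = 0 := by simpa [hd] using hΦ
          simp [hvd, ha, hb, hc, hd]) hv
      exact ⟨c / d, by field_simp; linear_combination -hΦ, by simp [ha, hb], by field_simp⟩
    · have hr : a / b * (a / b) = ε := by field_simp; linear_combination -q2
      have hr0 : a / b ≠ 0 := fun h => S.ne (by rw [← hr, h, mul_zero])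
      refine ⟨a / b, hr, by field_simp, mul_left_cancel₀ hr0 ?_⟩
      rw [← mul_assoc, hr]
      field_simp
      linear_combination q1
  have hρ0 : ρ ≠ 0 := fun h => S.ne (by rw [← hρ, h, zero_mul])
  have hJv : J v = ρ • v := by
    rw [hvd]
    simp only [map_add, map_smul, S.sq, ha, hc, ← hρ, smul_add, smul_smul]
    module
  have hfull : Full M v := by
    refine full_of_scaling S.two hs S.le hT fun l hl => ?_
    obtain ⟨α, hα⟩ : ∃ α, α = (l + l⁻¹) / 2 := ⟨_, rfl⟩
    obtain ⟨β, hβ⟩ : ∃ β, β = (l - l⁻¹) / (2 * ρ) := ⟨_, rfl⟩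
    have hαβ : α * α - ε * (β * β) = 1 := by
      rw [hα, hβ, ← hρ]
      have := S.two
      field_simp
      ring
    obtain ⟨g, hg, hgx⟩ := S.semi_act (L := α • LinearMap.id + β • J) (fun x y => by
        simp only [LinearMap.add_apply, LinearMap.smul_apply, LinearMap.id_apply, map_add, map_smul,
          smul_eq_mul, S.JJ, S.skew x y]
        linear_combination B x y * hαβ) (Or.inl fun x => by simp)
    refine ⟨g, hg, ?_⟩
    rw [hgx]
    simp only [LinearMap.add_apply, LinearMap.smul_apply, LinearMap.id_apply, hJv, smul_smul, ← add_smul]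
    congr 1
    have := S.two
    rw [hα, hβ]; field_simp; ring
  obtain ⟨u, b₁, hb₁, hu, hfu⟩ : ∃ u : Vec, ∃ b₁ : F, b₁ ≠ 0 ∧
      u = (ρ * b₁) • e + b₁ • J e ∧ Full M u := by
    have step : ∀ b₁ d₁ : F, b₁ ≠ 0 → Full M ((ρ * b₁) • e + b₁ • J e + (ρ * d₁) • e' + d₁ • J e') →
        Full M ((ρ * b₁) • e + b₁ • J e) := by
      intro b₁ d₁ hb h
      obtain ⟨g, hg, hgv⟩ := S.root_apply Φ (d₁ / (ε * b₁)) (ρ * b₁) b₁ (ρ * d₁) d₁
      have h' := h.image S.le hg
      rw [hgv] at h'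
      have e1 : ε * (d₁ / (ε * b₁)) * b₁ = d₁ := by have := S.ne; field_simp
      rwa [show ε * (d₁ / (ε * b₁)) * (ρ * b₁) = ρ * d₁ by linear_combination ρ * e1, e1, sub_self, sub_self,
        zero_smul, zero_smul, add_zero, add_zero] at h'
    by_cases hb : b = 0
    · by_cases hd : d = 0
      · exact absurd (by simp [hvd, ha, hc, hb, hd]) hv
      have h := hfull.image S.le (S.root_mem Φ.ee 1)
      have e1 : act (T (J e) 1 * T e (-(ε * 1))) v =
          (ρ * (ε * d)) • e + (ε * d) • J e + (ρ * d) • e' + d • J e' := by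
        rw [hvd, ha, hc, hb]
        simp only [act_mul, T_apply, map_add, map_smul, LinearMap.add_apply, LinearMap.smul_apply, smul_eq_mul,
          S.JJ, Φ.ee, Φ.ej, Φ.ep, v1, v3, v4, v5, v6, B_self]
        module
      rw [e1] at h
      exact ⟨_, _, mul_ne_zero S.ne hd, rfl, step _ _ (mul_ne_zero S.ne hd) h⟩
    · refine ⟨_, _, hb, rfl, step _ d hb ?_⟩
      rw [← ha, ← hc, ← hvd]
      exact hfull
  have hp : Full M (ρ • e + J e) := by
    have h := hfu.smul b₁⁻¹
    rwa [hu, smul_add, smul_smul, smul_smul, mul_comm ρ, inv_mul_cancel_left₀ hb₁, inv_mul_cancel₀ hb₁,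
      one_smul] at h
  have hm : Full M (ρ • e - J e) := by
    obtain ⟨g, hg, hge, -, hgJe, -⟩ := S.exists_mult Φ (α := 1) (β := 0) (by simp) (σ := -1) (Or.inr rfl)
    have h := hp.image S.le hg
    rw [map_add, map_smul, hge, hgJe] at h
    simpa [sub_eq_add_neg] using h
  intro x
  obtain ⟨t, htd⟩ : ∃ t, t = x / (4 * ε) := ⟨_, rfl⟩
  have h := M.mul_mem (M.mul_mem (hp t) (hm t)) (S.root_mem Φ.ee (-(2 * t)))
  suffices he : T (ρ • e + J e) t * T (ρ • e - J e) t * (T (J e) (-(2 * t)) * T e (-(ε * -(2 * t)))) = T e x by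
    rwa [he] at h
  refine act_ext fun z => ?_
  have h4 : (4 : F) ≠ 0 := by rw [show (4 : F) = 2 * 2 by norm_num]; exact mul_ne_zero S.two S.two
  have hx : x = 4 * (ρ * ρ) * t := by
    have := S.ne
    rw [htd, hρ]; field_simp
  simp only [act_mul, T_apply, map_add, map_sub, map_smul, LinearMap.add_apply, LinearMap.sub_apply,
    LinearMap.smul_apply, smul_eq_mul, Φ.ee, v1, B_self, hx, ← hρ]
  module

/-- All transvections. -/
theorem top_of_transvection {v : Vec} (hv : v ≠ 0) {s : F} (hs : s ≠ 0) (hT : T v s ∈ M) :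
    Cfsg.spGL 2 F ≤ M := by
  obtain ⟨v1, v2, v3, v4, v5, v6⟩ := S.vals Φ
  have he := S.full_e Φ hv hs hT
  obtain ⟨g, hg, hge, hge', -⟩ := S.exists_mult Φ (α := 0) (β := 1)
    (by simpa using S.ne) (σ := 1) (Or.inl rfl)
  have hJe : Full M (J e) := by simpa [hge] using he.image S.le hg
  have he' : Full M e' := by
    obtain ⟨k, hk, hke⟩ := S.root_apply Φ 1 1 0 0 0
    have h := (he.image S.le hk).image S.le (he (-ε⁻¹))
    rw [show (1 : F) • e + (0 : F) • J e + (0 : F) • e' + (0 : F) • J e' = e by module] at hke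
    rw [hke, T_apply] at h
    have h' := h.smul (-ε⁻¹)
    convert h' using 2
    simp only [map_add, map_smul, LinearMap.add_apply, LinearMap.smul_apply, smul_eq_mul, B_self, v3, v6]
    have := S.ne
    match_scalars <;> field_simp <;> ring
  have hJe' : Full M (J e') := by
    have h := (he'.image S.le hg).smul (-ε)
    rw [hge'] at h
    simpa [smul_smul, S.ne] using h
  obtain ⟨b, hb, hb1, -⟩ := S.five
  obtain ⟨k, hk, hke, -⟩ := S.exists_mult Φ (α := 1) (β := b)
    (fun h => hb1 (by linear_combination -h)) (σ := 1) (Or.inl rfl)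
  have hbe : Full M (e + b • J e) := by simpa [hke] using he.image S.le hk
  refine spGL_le_of_five S.le (E₁ := e) (E₂ := J e) (F₁ := e') (F₂ := J e') Φ.span
    (by rw [Φ.ep]; exact one_ne_zero) (by rw [S.JJ, Φ.ep, mul_one]; exact neg_ne_zero.2 S.ne) Φ.ee Φ.pp Φ.ej
    v5 he hJe he' hJe' hb hbe

omit Φ in
/-- The overgroups. -/
theorem top [Fintype F] (hodd : Odd (Fintype.card F)) {g : GL4} (hg : g ∈ M) (hns : ¬ Semi J g) :
    Cfsg.spGL 2 F ≤ M := by
  obtain ⟨e, e', Φ⟩ := S.exists_frame hodd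
  obtain ⟨x, hx, hx0, hxe, hz⟩ := S.exists_moved (S.le hg) hns Φ.span Φ.ee Φ.pp Φ.ej Φ.ep
  obtain ⟨v, s, hv, hs, hT⟩ := S.exists_transvection hg hx hx0 hxe hz
  exact S.top_of_transvection Φ hv hs hT

end Plane

end Cfsg.Agent.Lib.SpFourOdd96
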