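import Cfsg.Agent.Lib.SpFourOdd96.PlaneMain
import Cfsg.Agent.Lib.SpFourOdd96.Line
import Cfsg.Agent.Lib.K41.ExtForm.OfMatrix
import Cfsg.Agent.Lib.Subspaces.Decomposition
import Cfsg.Agent.Lib.Subspaces.Transvection

/-!
The normalisers of quadratic fields and the stabilisers of pairs of totally isotropic planes are maximal in `Sp₄`.
-/

set_option autoImplicit false

namespace Cfsg.Agent.Lib.SpFourOdd96

open Matrix Cfsg.Agent.Lib.K41.ExtForm Cfsg.Agent.Lib.Subspaces.Decomposition

variable {F : Type*} [Field F]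

local notation "I4" => Fin 2 ⊕ Fin 2
local notation "Vec" => Fin 2 ⊕ Fin 2 → F
local notation "Mat" => Matrix (Fin 2 ⊕ Fin 2) (Fin 2 ⊕ Fin 2) F
local notation "GL4" => GL (Fin 2 ⊕ Fin 2) F

/-- A transvection that is not semilinear. -/
theorem exists_not_semi (h2 : (2 : F) ≠ 0) {J : Vec →ₗ[F] Vec} {ε : F} (hε : ε ≠ 0)
    (sq : ∀ x, J (J x) = ε • x) {v : Vec} (hv : v ≠ 0) (hve : ∀ a : F, J v ≠ a • v) :
    ∃ g ∈ Cfsg.spGL 2 F, ¬ Semi J g := by
  refine ⟨T v 1, T_mem v 1, ?_⟩
  rintro (h | h)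
  · obtain ⟨y, hy⟩ := exists_ne hv
    have hy' : B y v ≠ 0 := by rw [B_skew]; exact neg_ne_zero.2 hy
    have := h y
    rw [T_apply, T_apply, map_add, map_smul, one_mul, one_mul, add_right_inj] at this
    refine hve (B (J y) v / B y v) ?_
    rw [div_eq_inv_mul, mul_smul, this, smul_smul, inv_mul_cancel₀ hy', one_smul]
  · let φ : Vec →ₗ[F] F × F := (B.flip v).prod (B.flip v ∘ₗ J)
    have h1 := LinearMap.finrank_range_add_finrank_ker φ
    rw [Module.finrank_fintype_fun_eq_card] at h1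
    have h3 : Module.finrank F (LinearMap.range φ) ≤ 2 :=
      le_trans (Submodule.finrank_le _) (by rw [Module.finrank_prod, Module.finrank_self])
    obtain ⟨x, hx, hx0⟩ := Submodule.exists_mem_ne_zero_of_ne_bot (p := LinearMap.ker φ) (fun h0 => by
      rw [h0, finrank_bot] at h1; simp at h1; omega)
    have hφ := LinearMap.mem_ker.1 hx
    have e1 : B x v = 0 := congrArg Prod.fst hφ
    have e2 : B (J x) v = 0 := congrArg Prod.snd hφ
    have := h x
    rw [T_fix _ e2, T_fix _ e1, eq_neg_iff_add_eq_zero, ← two_smul F, smul_eq_zero, or_iff_right h2] at this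
    have h4 := sq x
    rw [this, map_zero, eq_comm, smul_eq_zero] at h4
    exact hx0 (h4.resolve_left hε)

/-- A convenient parameter. -/
theorem exists_five [Fintype F] (h5 : 5 ≤ Fintype.card F) (ε : F) :
    ∃ b : F, b ≠ 0 ∧ ε * (b * b) ≠ 1 ∧ ∃ l : F, l ≠ 0 ∧ l * l ≠ 1 := by
  classical
  have key : ∀ c : F, ∃ b : F, b ≠ 0 ∧ c * (b * b) ≠ 1 := fun c => by
    by_contra h
    push Not at h
    have h1 : c * (1 * 1) = 1 := h 1 one_ne_zero
    have hsub : (Finset.univ : Finset F) ⊆ {0, 1, -1} := fun b _ => by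
      by_cases hb : b = 0
      · simp [hb]
      have := h b hb
      rw [show c = 1 by linear_combination h1, one_mul] at this
      rcases mul_self_eq_one_iff.1 this with h' | h' <;> simp [h']
    have := Finset.card_le_card hsub
    rw [Finset.card_univ] at this
    exact absurd (this.trans Finset.card_le_three) (by omega)
  obtain ⟨b, hb, hb'⟩ := key ε
  obtain ⟨l, hl, hl'⟩ := key 1
  exact ⟨b, hb, hb', l, hl, by simpa using hl'⟩

theorem two_ne_zero' [Fintype F] (hodd : Odd (Fintype.card F)) : (2 : F) ≠ 0 :=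
  Ring.two_ne_zero fun h => by
    have := FiniteField.even_card_iff_char_two.mp h
    exact Nat.not_even_iff_odd.mpr hodd (Nat.even_iff.mpr this)

/-- A quadratic subfield as the span of a square root. -/
theorem exists_root (h2 : (2 : F) ≠ 0) {K : Subalgebra F Mat} (hK : Cfsg.Geo.IsFieldSubalgebra 2 K) :
    ∃ J ∈ K, ∃ ε : F, J * J = ε • (1 : Mat) ∧ (∀ a : F, a * a ≠ ε) ∧
      (∀ c ∈ K, ∃ a b : F, c = a • (1 : Mat) + b • J) ∧ ∀ J' ∈ K, J' * J' = ε • (1 : Mat) → J' = J ∨ J' = -J := by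
  haveI : Nonempty I4 := ⟨Sum.inl 0⟩
  have hdiv : ∀ x ∈ K, ∀ y ∈ K, x * y = 0 → x = 0 ∨ y = 0 := fun x hx y hy h => by
    by_contra hc
    push Not at hc
    obtain ⟨x', hx', e⟩ := hK.inv x hx hc.1
    rw [hK.comm x hx x' hx'] at e
    exact hc.2 (by rw [← one_mul y, ← e, mul_assoc, h, mul_zero])
  have hfr : Module.finrank F (Subalgebra.toSubmodule K) = 2 := hK.finrank_eq
  obtain ⟨θ, hθ, hθ1⟩ : ∃ θ ∈ Subalgebra.toSubmodule K, θ ∉ Submodule.span F {(1 : Mat)} := by
    by_contra h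
    push Not at h
    have := Submodule.finrank_mono (show Subalgebra.toSubmodule K ≤ Submodule.span F {(1 : Mat)} from h)
    rw [hfr, finrank_span_singleton one_ne_zero] at this
    omega
  have hspan : Submodule.span F {(1 : Mat), θ} = Subalgebra.toSubmodule K := by
    refine Submodule.eq_of_le_of_finrank_le (Submodule.span_le.2 ?_) ?_
    · rintro x (rfl | rfl)
      · exact K.one_mem
      · exact hθ
    · have hli : LinearIndependent F ![(1 : Mat), θ] := by
        rw [LinearIndependent.pair_iff' one_ne_zero]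
        exact fun a h => hθ1 (Submodule.mem_span_singleton.2 ⟨a, h⟩)
      have := finrank_span_eq_card hli
      rw [Matrix.range_cons_cons_empty, Fintype.card_fin] at this
      rw [this, hfr]
  have hcoord : ∀ c ∈ K, ∃ a b : F, a • (1 : Mat) + b • θ = c := fun c hc =>
    Submodule.mem_span_pair.1 (hspan ▸ hc : c ∈ Submodule.span F {(1 : Mat), θ})
  obtain ⟨a, b, hab⟩ := hcoord _ (K.mul_mem hθ hθ)
  have hJK : θ - (b / 2) • (1 : Mat) ∈ K := K.sub_mem hθ (K.smul_mem K.one_mem _)
  obtain ⟨J, hJ⟩ : ∃ J, J = θ - (b / 2) • (1 : Mat) := ⟨_, rfl⟩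
  rw [← hJ] at hJK
  obtain ⟨ε, hε⟩ : ∃ ε, ε = a + b / 2 * (b / 2) := ⟨_, rfl⟩
  have hsq : J * J = ε • (1 : Mat) := by
    rw [hJ, hε]
    simp only [sub_mul, mul_sub, smul_mul_assoc, mul_smul_comm, one_mul, mul_one, ← hab]
    match_scalars <;> field_simp <;> ring
  have hpm : ∀ J' ∈ K, ∀ J'' ∈ K, J' * J' = ε • (1 : Mat) → J'' * J'' = ε • (1 : Mat) → J' = J'' ∨ J' = -J'' := by
    intro J' h' J'' h'' e' e''
    refine (hdiv (J' - J'') (K.sub_mem h' h'') (J' + J'') (K.add_mem h' h'') ?_).imp sub_eq_zero.1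
      eq_neg_of_add_eq_zero_left
    rw [sub_mul, mul_add, mul_add, e', e'', hK.comm J' h' J'' h'']
    abel
  have hns : ∀ c : F, c * c ≠ ε := fun c hc => by
    rcases hpm J hJK (c • (1 : Mat)) (K.smul_mem K.one_mem _) hsq
      (by rw [smul_mul_assoc, mul_smul_comm, one_mul, smul_smul, hc]) with h | h
    · exact hθ1 (Submodule.mem_span_singleton.2 ⟨c + b / 2, by rw [add_smul, ← h, hJ, sub_add_cancel]⟩)
    · exact hθ1 (Submodule.mem_span_singleton.2 ⟨-c + b / 2, by rw [add_smul, neg_smul, ← h, hJ, sub_add_cancel]⟩)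
  refine ⟨J, hJK, ε, hsq, hns, fun c hc => ?_, fun J' h' e' => hpm J' h' J hJK e' hsq⟩
  obtain ⟨x, y, hxy⟩ := hcoord c hc
  exact ⟨x + y * (b / 2), y, by rw [← hxy, hJ]; module⟩

/-- The normaliser is the semilinear group. -/
theorem mem_normalizer_iff [Fintype F] (h2 : (2 : F) ≠ 0) {K : Subalgebra F Mat}
    {J : Mat} (hJ : J ∈ K) {ε : F} (hsq : J * J = ε • (1 : Mat))
    (hspan : ∀ c ∈ K, ∃ a b : F, c = a • (1 : Mat) + b • J)
    (hpm : ∀ J' ∈ K, J' * J' = ε • (1 : Mat) → J' = J ∨ J' = -J) (g : GL4) :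
    g ∈ Cfsg.Geo.subalgebraNormalizer K ↔ Semi (Matrix.mulVecLin J) g := by
  constructor
  · intro hg
    have hmem := (hg J).1 hJ
    refine (hpm _ hmem ?_).imp (fun h x => ?_) fun h x => ?_
    · calc (g : Mat) * J * ((g⁻¹ : GL4) : Mat) * ((g : Mat) * J * ((g⁻¹ : GL4) : Mat))
          = (g : Mat) * J * (((g⁻¹ : GL4) : Mat) * (g : Mat)) * J * ((g⁻¹ : GL4) : Mat) := by simp only [mul_assoc]
        _ = ε • (1 : Mat) := by
          rw [Units.inv_mul, mul_one, mul_assoc (g : Mat) J J, hsq, mul_smul_comm, mul_one, smul_mul_assoc,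
            Units.mul_inv]
    all_goals
      show (g : Mat) *ᵥ (J *ᵥ x) = _
      rw [mulVec_mulVec, ← Units.inv_mul_cancel_right ((g : Mat) * J) g, h]
      simp [act, mulVec_mulVec, Matrix.neg_mulVec]
  · intro hs
    refine mem_normalizer_of_semi K g fun c hc => ?_
    obtain ⟨a, b, rfl⟩ := hspan c hc
    rcases hs with hs | hs
    · refine ⟨_, hc, fun x => ?_⟩
      have := hs x
      simp only [act, Matrix.mulVecLin_apply] at this
      simp only [add_mulVec, smul_mulVec, one_mulVec, mulVec_add, mulVec_smul, this]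
    · refine ⟨a • (1 : Mat) - b • J, K.sub_mem (K.smul_mem K.one_mem _) (K.smul_mem hJ _), fun x => ?_⟩
      have := hs x
      simp only [act, Matrix.mulVecLin_apply] at this
      simp only [add_mulVec, sub_mulVec, smul_mulVec, one_mulVec, mulVec_add, mulVec_smul, this, smul_neg]
      abel

theorem field_selfadjoint [Fintype F] (hodd : Odd (Fintype.card F)) (K : Subalgebra F Mat)
    (hK : Cfsg.Geo.IsFieldSubalgebra 2 K) (hsa : Cfsg.Geo.IsSelfAdjointFor (Cfsg.sympForm 2 F) K)
    (halt : ∀ k ∈ K, ∀ v : Vec, (Cfsg.sympForm 2 F) (Matrix.mulVec k v) v = 0) :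
    Cfsg.Geo.IsMaximalIn (Cfsg.spGL 2 F) (Cfsg.Geo.subalgebraNormalizer K ⊓ Cfsg.spGL 2 F) := by
  have h2 := two_ne_zero' hodd
  obtain ⟨J, hJ, ε, hsq, hns, hspan, hpm⟩ := exists_root h2 hK
  have hiff := mem_normalizer_iff h2 hJ hsq hspan hpm
  have hε : ε ≠ 0 := fun h => hns 0 (by rw [h, mul_zero])
  have sq : ∀ x, Matrix.mulVecLin J (Matrix.mulVecLin J x) = ε • x := fun x => by
    simp only [Matrix.mulVecLin_apply, mulVec_mulVec, hsq, smul_mulVec, one_mulVec]
  refine Cfsg.Agent.Lib.Subspaces.Transvection.isMaximalIn_of inf_le_right ?_ fun M hHM hMS g hg hgn => ?_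
  · obtain ⟨v, hv⟩ : ∃ v : Vec, v ≠ 0 := ⟨Pi.single (Sum.inl 0) 1, by simp⟩
    obtain ⟨g, hg, hgs⟩ := exists_not_semi h2 hε sq hv fun a h => by
      have := sq v
      rw [h, map_smul, h, smul_smul, ← sub_eq_zero, ← sub_smul, smul_eq_zero, or_iff_left hv] at this
      exact hns a (sub_eq_zero.1 this)
    exact ⟨g, hg, fun h => hgs ((hiff g).1 h.1)⟩
  have S : Line (Matrix.mulVecLin J) ε M := ⟨h2, fun x y => hsa J hJ x y, fun x => by
    rw [B_skew]; exact neg_eq_zero.2 (halt J hJ x), sq, hns, hMS, fun k hk hs => hHM ⟨(hiff k).2 hs, hk⟩⟩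
  exact S.top hg fun hs => hgn ⟨(hiff g).2 hs, hMS hg⟩

theorem field_hermitian [Fintype F] (hodd : Odd (Fintype.card F)) (h5 : 5 ≤ Fintype.card F)
    (K : Subalgebra F Mat) (hK : Cfsg.Geo.IsFieldSubalgebra 2 K)
    (hac : Cfsg.Geo.IsAdjointClosedFor (Cfsg.sympForm 2 F) K)
    (hnsa : ¬ Cfsg.Geo.IsSelfAdjointFor (Cfsg.sympForm 2 F) K) :
    Cfsg.Geo.IsMaximalIn (Cfsg.spGL 2 F) (Cfsg.Geo.subalgebraNormalizer K ⊓ Cfsg.spGL 2 F) := by
  have h2 := two_ne_zero' hodd
  obtain ⟨J, hJ, ε, hsq, hns, hspan, hpm⟩ := exists_root h2 hK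
  have hiff := mem_normalizer_iff h2 hJ hsq hspan hpm
  have hε : ε ≠ 0 := fun h => hns 0 (by rw [h, mul_zero])
  have sq : ∀ x, Matrix.mulVecLin J (Matrix.mulVecLin J x) = ε • x := fun x => by
    simp only [Matrix.mulVecLin_apply, mulVec_mulVec, hsq, smul_mulVec, one_mulVec]
  obtain ⟨J', hJ', hadj⟩ := hac J hJ
  have hadj' : ∀ x y, B (J *ᵥ x) y = B x (J' *ᵥ y) := fun x y => hadj x y
  have hJ'sq : J' * J' = ε • (1 : Mat) := by
    refine Cfsg.Agent.Lib.K41.ExtForm.mat_ext' fun y => sub_eq_zero.1 (B_nondeg fun x => ?_)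
    rw [B_skew, map_sub, ← mulVec_mulVec, ← hadj', ← hadj', mulVec_mulVec, hsq]
    simp [smul_mulVec]
  have hskew : ∀ x y, B (Matrix.mulVecLin J x) y = -B x (Matrix.mulVecLin J y) := by
    rcases hpm J' hJ' hJ'sq with rfl | rfl
    · refine absurd (fun k hk u v => ?_) hnsa
      obtain ⟨a, b, rfl⟩ := hspan k hk
      show B ((a • (1 : Mat) + b • J') *ᵥ u) v = B u ((a • (1 : Mat) + b • J') *ᵥ v)
      simp [add_mulVec, smul_mulVec, hadj']
    · intro x y
      simp only [Matrix.mulVecLin_apply, hadj', neg_mulVec, map_neg]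
  refine Cfsg.Agent.Lib.Subspaces.Transvection.isMaximalIn_of inf_le_right ?_ fun M hHM hMS g hg hgn => ?_
  · obtain ⟨v, hv⟩ : ∃ v : Vec, v ≠ 0 := ⟨Pi.single (Sum.inl 0) 1, by simp⟩
    obtain ⟨g, hg, hgs⟩ := exists_not_semi h2 hε sq hv fun a h => by
      have := sq v
      rw [h, map_smul, h, smul_smul, ← sub_eq_zero, ← sub_smul, smul_eq_zero, or_iff_left hv] at this
      exact hns a (sub_eq_zero.1 this)
    exact ⟨g, hg, fun h => hgs ((hiff g).1 h.1)⟩
  have S : Plane (Matrix.mulVecLin J) ε M := ⟨h2, exists_five h5 ε, hskew, sq, hε, hMS,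
    fun k hk hs => hHM ⟨(hiff k).2 hs, hk⟩⟩
  exact S.top hodd hg fun hs => hgn ⟨(hiff g).2 hs, hMS hg⟩

theorem isotropic_pair [Fintype F] (hodd : Odd (Fintype.card F)) (h5 : 5 ≤ Fintype.card F)
    (D : Fin 2 → Submodule F Vec) (hD : Cfsg.Geo.IsMDecomposition 2 D)
    (hts : ∀ i, Cfsg.Geo.IsTotallySingularFor (Cfsg.sympForm 2 F) (D i)) :
    Cfsg.Geo.IsMaximalIn (Cfsg.spGL 2 F) (Cfsg.Geo.decompositionStabilizer D ⊓ Cfsg.spGL 2 F) := by
  have h2 := two_ne_zero' hodd
  obtain ⟨J, hJd⟩ : ∃ J : Vec →ₗ[F] Vec, J = comp hD 0 - comp hD 1 := ⟨_, rfl⟩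
  have hs : ∀ x, comp hD 0 x + comp hD 1 x = x := fun x => by
    have := sum_comp hD x
    rwa [Fin.sum_univ_two] at this
  have hdisj : D 0 ⊓ D 1 = ⊥ := by
    have h : Disjoint (D 0) (D 1) := hD.indep.pairwiseDisjoint (show (0 : Fin 2) ≠ 1 by decide)
    exact disjoint_iff.1 h
  have hplus : ∀ x, J x = x ↔ x ∈ D 0 := fun x => by
    constructor
    · intro h
      have e := hs x
      rw [hJd, LinearMap.sub_apply] at h
      have h1 : (2 : F) • comp hD 1 x = 0 := by linear_combination (norm := module) e - h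
      rw [smul_eq_zero, or_iff_right h2] at h1
      rw [← e, h1, add_zero]; exact comp_mem hD 0 x
    · intro hx
      have e := hs x
      have h1 : comp hD 1 x ∈ D 0 ⊓ D 1 := ⟨by
        rw [show comp hD 1 x = x - comp hD 0 x by linear_combination (norm := module) e]
        exact Submodule.sub_mem _ hx (comp_mem hD 0 x), comp_mem hD 1 x⟩
      rw [hdisj, Submodule.mem_bot] at h1
      rw [hJd, LinearMap.sub_apply, h1, sub_zero]
      rwa [h1, add_zero] at e
  have hminus : ∀ x, J x = -x ↔ x ∈ D 1 := fun x => by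
    constructor
    · intro h
      have e := hs x
      rw [hJd, LinearMap.sub_apply] at h
      have h1 : (2 : F) • comp hD 0 x = 0 := by linear_combination (norm := module) e + h
      rw [smul_eq_zero, or_iff_right h2] at h1
      rw [← e, h1, zero_add]; exact comp_mem hD 1 x
    · intro hx
      have e := hs x
      have h1 : comp hD 0 x ∈ D 0 ⊓ D 1 := ⟨comp_mem hD 0 x, by
        rw [show comp hD 0 x = x - comp hD 1 x by linear_combination (norm := module) e]
        exact Submodule.sub_mem _ hx (comp_mem hD 1 x)⟩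
      rw [hdisj, Submodule.mem_bot] at h1
      rw [hJd, LinearMap.sub_apply, h1, zero_sub]
      rw [h1, zero_add] at e
      rw [e]
  have hJc : ∀ x, J x = comp hD 0 x - comp hD 1 x := fun x => by rw [hJd]; rfl
  have sq : ∀ x, J (J x) = (1 : F) • x := fun x => by
    rw [one_smul]
    conv_rhs => rw [← hs x]
    rw [hJc x, map_sub, (hplus _).2 (comp_mem hD 0 x), (hminus _).2 (comp_mem hD 1 x), sub_neg_eq_add]
  have hskew : ∀ x y, B (J x) y = -B x (J y) := fun x y => by
    have z : ∀ i, ∀ u v, B (comp hD i u) (comp hD i v) = 0 := fun i u v =>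
      hts i _ (comp_mem hD i u) _ (comp_mem hD i v)
    rw [hJc x, hJc y]
    conv_lhs => rw [← hs y]
    conv_rhs => rw [← hs x]
    simp only [map_add, map_sub, LinearMap.add_apply, LinearMap.sub_apply, z]
    ring
  have hiff : ∀ g : GL4, g ∈ Cfsg.Geo.decompositionStabilizer D ↔ Semi J g := by
    intro g
    constructor
    · intro hg
      obtain ⟨σ, hσ⟩ := exists_image_of_mem hg
      rcases (show σ 0 = 0 ∨ σ 0 = 1 by omega) with h0 | h0
      · have h1 : σ 1 = 1 := by
          rcases (show σ 1 = 0 ∨ σ 1 = 1 by omega) with h | h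
          · exact absurd (σ.injective (h0.trans h.symm)) (by decide)
          · exact h
        refine Or.inl fun x => ?_
        have m0 : act g (comp hD 0 x) ∈ D 0 := by
          have := hσ 0 _ (comp_mem hD 0 x)
          rwa [h0] at this
        have m1 : act g (comp hD 1 x) ∈ D 1 := by
          have := hσ 1 _ (comp_mem hD 1 x)
          rwa [h1] at this
        conv_rhs => rw [← hs x]
        rw [hJc x, map_sub, map_add, map_add, (hplus _).2 m0, (hminus _).2 m1, sub_eq_add_neg]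
      · have h1 : σ 1 = 0 := by
          rcases (show σ 1 = 0 ∨ σ 1 = 1 by omega) with h | h
          · exact h
          · exact absurd (σ.injective (h0.trans h.symm)) (by decide)
        refine Or.inr fun x => ?_
        have m0 : act g (comp hD 0 x) ∈ D 1 := by
          have := hσ 0 _ (comp_mem hD 0 x)
          rwa [h0] at this
        have m1 : act g (comp hD 1 x) ∈ D 0 := by
          have := hσ 1 _ (comp_mem hD 1 x)
          rwa [h1] at this
        conv_rhs => rw [← hs x]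
        rw [hJc x, map_sub, map_add, map_add, (hminus _).2 m0, (hplus _).2 m1]
        abel
    · rintro (h | h)
      · refine mem_stabilizer_of_mapsTo hD fun i => ⟨i, fun x hx => ?_⟩
        fin_cases i
        · exact (hplus _).1 (show J (act g x) = act g x by rw [← h, (hplus x).2 hx])
        · exact (hminus _).1 (show J (act g x) = -act g x by rw [← h, (hminus x).2 hx, map_neg])
      · refine mem_stabilizer_of_mapsTo hD fun i => ⟨Equiv.swap 0 1 i, fun x hx => ?_⟩
        fin_cases i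
        · exact (hminus _).1 (show J (act g x) = -act g x by
            rw [← neg_neg (J (act g x)), ← h, (hplus x).2 hx])
        · exact (hplus _).1 (show J (act g x) = act g x by
            rw [← neg_neg (J (act g x)), ← h, (hminus x).2 hx, map_neg, neg_neg])
  refine Cfsg.Agent.Lib.Subspaces.Transvection.isMaximalIn_of inf_le_right ?_ fun M hHM hMS g hg hgn => ?_
  · obtain ⟨p, hp, hp0⟩ := Submodule.exists_mem_ne_zero_of_ne_bot (p := D 0) (fun h => by
      have := hD.finrank_eq 0; rw [h, finrank_bot] at this; omega)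
    obtain ⟨p', hp', hp'0⟩ := Submodule.exists_mem_ne_zero_of_ne_bot (p := D 1) (fun h => by
      have := hD.finrank_eq 1; rw [h, finrank_bot] at this; omega)
    obtain ⟨g, hg, hgs⟩ := exists_not_semi h2 one_ne_zero sq (v := p + p') (fun h => by
      have : p ∈ D 0 ⊓ D 1 := ⟨hp, by rw [eq_neg_of_add_eq_zero_left h]; exact Submodule.neg_mem _ hp'⟩
      rw [hdisj, Submodule.mem_bot] at this
      exact hp0 this) fun a h => by
      rw [map_add, (hplus p).2 hp, (hminus p').2 hp', smul_add] at h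
      have hm : (1 - a) • p ∈ D 0 ⊓ D 1 := ⟨Submodule.smul_mem _ _ hp, by
        rw [show (1 - a) • p = (1 + a) • p' by linear_combination (norm := module) h]
        exact Submodule.smul_mem _ _ hp'⟩
      rw [hdisj, Submodule.mem_bot, smul_eq_zero, or_iff_left hp0, sub_eq_zero] at hm
      rw [← hm, one_smul, one_smul] at h
      have h' : (2 : F) • p' = 0 := by linear_combination (norm := module) -h
      exact hp'0 ((smul_eq_zero.1 h').resolve_left h2)
    exact ⟨g, hg, fun h => hgs ((hiff g).1 h.1)⟩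
  have S : Plane J 1 M := ⟨h2, exists_five h5 1, hskew, sq, one_ne_zero, hMS,
    fun k hk hs' => hHM ⟨(hiff k).2 hs', hk⟩⟩
  exact S.top hodd hg fun hs' => hgn ⟨(hiff g).2 hs', hMS hg⟩

end Cfsg.Agent.Lib.SpFourOdd96
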