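import Cfsg.Agent.Lib.SpFourOdd96.Tv
import Cfsg.Agent.Lib.Symplectic.Form

/-!
A four-dimensional symplectic space with an operator of square `ε`, and a subgroup containing every isometry
commuting or anticommuting with it.
-/

set_option autoImplicit false

namespace Cfsg.Agent.Lib.SpFourOdd96

open Matrix

variable {F : Type*} [Field F]

local notation "I4" => Fin 2 ⊕ Fin 2
local notation "Vec" => Fin 2 ⊕ Fin 2 → F
local notation "GL4" => GL (Fin 2 ⊕ Fin 2) F

/-- Commuting or anticommuting. -/
def Semi (J : (I4 → F) →ₗ[F] (I4 → F)) (g : GL I4 F) : Prop :=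
  (∀ x, act g (J x) = J (act g x)) ∨ ∀ x, act g (J x) = -J (act g x)

/-- An element with a given action. -/
theorem exists_act {L : (I4 → F) →ₗ[F] (I4 → F)} (h : ∀ x y, B (L x) (L y) = B x y) :
    ∃ g ∈ Cfsg.spGL 2 F, ∀ x, act g x = L x := by
  have hinj : Function.Injective L := by
    rw [← LinearMap.ker_eq_bot, LinearMap.ker_eq_bot']
    intro x hx
    exact B_nondeg fun y => by rw [← h, hx, map_zero, LinearMap.zero_apply]
  have happ : ∀ x, LinearMap.toMatrix' L *ᵥ x = L x := fun x => by
    rw [← Matrix.toLin'_apply, Matrix.toLin'_toMatrix']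
  have hu : IsUnit (LinearMap.toMatrix' L) := Matrix.mulVec_injective_iff_isUnit.mp fun x y e => hinj (by
    simpa only [happ] using e)
  refine ⟨hu.unit, mem_sp_iff.2 fun x y => ?_, fun x => ?_⟩
  · show B (LinearMap.toMatrix' L *ᵥ x) (LinearMap.toMatrix' L *ᵥ y) = B x y
    rw [happ, happ, h]
  · exact happ x

end Cfsg.Agent.Lib.SpFourOdd96
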