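import Mathlib.Algebra.Algebra.Subalgebra.IsSimpleOrder
import Cfsg.Agent.Lib.SpFourOdd96.Pencil
import Cfsg.Agent.Lib.SubfieldMax.Form

/-!
Overgroups of the rational points of `Sp₄` for a subfield of prime co-degree, odd characteristic.
-/

set_option autoImplicit false

namespace Cfsg.Agent.Lib.SpFourOdd96

open Matrix Cfsg.Agent.Lib.SubfieldMax.Linear Cfsg.Agent.Lib.SubfieldMax.Form

variable {F : Type*} [Field F]

local notation "I4" => Fin 2 ⊕ Fin 2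
local notation "Vec" => Fin 2 ⊕ Fin 2 → F
local notation "GL4" => GL (Fin 2 ⊕ Fin 2) F

/-- The standard basis vectors. -/
def bv (i : I4) : I4 → F := Pi.single i 1

theorem B_bv (x : Vec) (i : Fin 2) : B x (bv (Sum.inl i)) = x (Sum.inr i) ∧ B x (bv (Sum.inr i)) = -x (Sum.inl i) := by
  simp only [B_apply, Cfsg.sympForm, bv, Matrix.mulVec_single_one, dotProduct, Matrix.col_apply,
    Fintype.sum_sum_type]
  constructor <;> fin_cases i <;> simp [Fin.sum_univ_two, Matrix.J]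

theorem bv_vals (i j : Fin 2) :
    B (bv (F := F) (Sum.inl i)) (bv (Sum.inl j)) = 0 ∧ B (bv (F := F) (Sum.inr i)) (bv (Sum.inr j)) = 0 ∧
      B (bv (F := F) (Sum.inl i)) (bv (Sum.inr j)) = (if i = j then -1 else 0) ∧
      B (bv (F := F) (Sum.inr i)) (bv (Sum.inl j)) = (if i = j then 1 else 0) := by
  refine ⟨?_, ?_, ?_, ?_⟩
  · rw [(B_bv _ _).1]; simp [bv]
  · rw [(B_bv _ _).2]; simp [bv]
  · rw [(B_bv _ _).2]; simp [bv, Pi.single_apply, eq_comm]; split <;> simp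
  · rw [(B_bv _ _).1]; simp [bv, Pi.single_apply, eq_comm]

theorem vec_eq (v : Vec) : v = v (Sum.inl 0) • bv (Sum.inl 0) + v (Sum.inl 1) • bv (Sum.inl 1) +
    v (Sum.inr 0) • bv (Sum.inr 0) + v (Sum.inr 1) • bv (Sum.inr 1) := by
  funext i
  rcases i with i | i <;> fin_cases i <;> simp [bv]

theorem B_coord (x y : Vec) : B x y = y (Sum.inl 0) * x (Sum.inr 0) + y (Sum.inl 1) * x (Sum.inr 1) -
    y (Sum.inr 0) * x (Sum.inl 0) - y (Sum.inr 1) * x (Sum.inl 1) := by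
  conv_lhs => rw [vec_eq y]
  simp only [map_add, map_smul, smul_eq_mul, (B_bv x _).1, (B_bv x _).2]
  ring

variable {F₀ : Subfield F}

theorem rat_bv (i : I4) : Rat F₀ (bv (F := F) i) := Rat.single i (one_mem _)

theorem rat_add {u v : Vec} (hu : Rat F₀ u) (hv : Rat F₀ v) : Rat F₀ (u + v) := fun i => add_mem (hu i) (hv i)

theorem rat_B {u v : Vec} (hu : Rat F₀ u) (hv : Rat F₀ v) : B u v ∈ F₀ := by
  rw [B_coord]
  exact sub_mem (sub_mem (add_mem (mul_mem (hv _) (hu _)) (mul_mem (hv _) (hu _))) (mul_mem (hv _) (hu _)))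
    (mul_mem (hv _) (hu _))

/-- A rational vector pairing non-trivially with two. -/
theorem exists_both {u v : Vec} (hu : u ≠ 0) (hv : v ≠ 0) :
    ∃ z, Rat F₀ z ∧ B u z ≠ 0 ∧ B v z ≠ 0 := by
  have one : ∀ {w : Vec}, w ≠ 0 → ∃ i, B w (bv i) ≠ 0 := fun {w} hw => by
    by_contra h
    push Not at h
    exact hw (B_nondeg fun y => by rw [vec_eq y]; simp [h])
  obtain ⟨i, hi⟩ := one hu
  obtain ⟨j, hj⟩ := one hv
  by_cases h1 : B v (bv i) = 0
  · by_cases h2 : B u (bv j) = 0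
    · exact ⟨bv i + bv j, rat_add (rat_bv i) (rat_bv j), by rw [map_add, h2, add_zero]; exact hi,
        by rw [map_add, h1, zero_add]; exact hj⟩
    · exact ⟨bv j, rat_bv j, h2, hj⟩
  · exact ⟨bv i, rat_bv i, hi, h1⟩

/-- The standing data. -/
structure Sub (F₀ : Subfield F) (r : ℕ) (M : Subgroup (GL I4 F)) : Prop where
  two : (2 : F) ≠ 0
  prime : r.Prime
  card : Nat.card F = Nat.card F₀ ^ r
  le : M ≤ Cfsg.spGL 2 F
  rat : ∀ g ∈ Cfsg.spGL 2 F, (∀ i j, (g : Matrix I4 I4 F) i j ∈ F₀) → g ∈ M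

namespace Sub

variable {r : ℕ} {M : Subgroup (GL (Fin 2 ⊕ Fin 2) F)}
variable (S : Sub F₀ r M)
include S

theorem T_rat {v : Vec} (hv : Rat F₀ v) {a : F} (ha : a ∈ F₀) : T v a ∈ M :=
  S.rat _ (T_mem v a) fun i j => by
    have h := congrFun (T_apply v a (bv j)) i
    rw [show act (T v a) (bv j) i = ((T v a : GL4) : Matrix I4 I4 F) i j by
      simp [act, bv, mulVec_single_one]] at h
    rw [h]
    exact add_mem (rat_bv j i) (mul_mem (mul_mem ha (rat_B (rat_bv j) hv)) (hv i))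

theorem N_rat {p a : Vec} (hp : Rat F₀ p) (ha : Rat F₀ a) {t : F} (ht : t ∈ F₀) : N p a t ∈ M :=
  M.mul_mem (S.T_rat (hp.sub ha) ht) (S.T_rat (rat_add hp ha) (neg_mem ht))

theorem move {u v : Vec} (hu : Rat F₀ u) (hv : Rat F₀ v) (hu0 : u ≠ 0) (hv0 : v ≠ 0) :
    ∃ g ∈ M, act g u = v ∧ ∀ w, Rat F₀ w → Rat F₀ (act g w) := by
  have step : ∀ u v : Vec, Rat F₀ u → Rat F₀ v → B u v ≠ 0 →
      ∃ g ∈ M, act g u = v ∧ ∀ w, Rat F₀ w → Rat F₀ (act g w) := by
    intro u v hu hv huv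
    have ht : (B u v)⁻¹ ∈ F₀ := inv_mem (rat_B hu hv)
    refine ⟨T (v - u) (B u v)⁻¹, S.T_rat (hv.sub hu) ht, ?_, fun w hw => ?_⟩
    · rw [T_apply, map_sub, B_self, sub_zero, inv_mul_cancel₀ huv, one_smul, add_sub_cancel]
    · rw [T_apply]
      exact rat_add hw ((hv.sub hu).smul (mul_mem ht (rat_B hw (hv.sub hu))))
  obtain ⟨z, hz, hz1, hz2⟩ := exists_both (F₀ := F₀) hu0 hv0
  obtain ⟨g, hg, hgu, hgR⟩ := step u z hu hz hz1
  obtain ⟨k, hk, hkz, hkR⟩ := step z v hz hv (by rw [B_skew]; exact neg_ne_zero.2 hz2)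
  exact ⟨k * g, M.mul_mem hk hg, by rw [act_mul, hgu, hkz], fun w hw => by
    rw [act_mul]; exact hkR _ (hgR w hw)⟩

/-- An irrational transvection at a rational centre gives everything. -/
theorem top_of_good [Finite F] {v : Vec} (hv : Rat F₀ v) (hv0 : v ≠ 0) {c : F} (hc : c ∉ F₀) (hT : T v c ∈ M) :
    Cfsg.spGL 2 F ≤ M := by
  let X : Set F := setOf fun a => ∀ w : Vec, Rat F₀ w → T w a ∈ M
  have hX : ∀ {w : Vec}, Rat F₀ w → w ≠ 0 → ∀ {a : F}, T w a ∈ M → a ∈ X := by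
    intro w hw hw0 a ha u hu
    rcases eq_or_ne u 0 with rfl | hu0
    · rw [T_zero_left]; exact M.one_mem
    obtain ⟨g, hg, hgw, -⟩ := S.move hw hu hw0 hu0
    rw [← hgw, ← T_conj (S.le hg)]
    exact M.mul_mem (M.mul_mem hg ha) (M.inv_mem hg)
  have hadd : ∀ {a b}, a ∈ X → b ∈ X → a + b ∈ X := fun ha hb w hw => by
    rw [← T_add]; exact M.mul_mem (ha w hw) (hb w hw)
  have hneg : ∀ {a}, a ∈ X → -a ∈ X := fun ha w hw => by rw [← T_inv]; exact M.inv_mem (ha w hw)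
  have hsc : ∀ {a}, a ∈ X → ∀ {t}, t ∈ F₀ → t * a ∈ X := by
    intro a ha t ht
    have hsq : ∀ {s}, s ∈ F₀ → s * s * a ∈ X := fun {s} hs w hw => by
      rw [← T_smul]; exact ha _ (hw.smul hs)
    have h := hadd (hadd (hsq (s := t / 2 + 1) (add_mem (div_mem ht (ofNat_mem _ 2)) (one_mem _)))
      (hneg (hsq (s := t / 2) (div_mem ht (ofNat_mem _ 2))))) (hneg (hsq (s := 1) (one_mem _)))
    convert h using 1
    have := S.two
    field_simp
    ring
  have hF₀ : ∀ {t}, t ∈ F₀ → t ∈ X := fun ht w hw => S.T_rat hw ht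
  obtain ⟨l0, l1, m0, m1, hl0, hl1, hm0, hm1⟩ : ∃ l0 l1 m0 m1 : Vec, l0 = bv (Sum.inl 0) ∧ l1 = bv (Sum.inl 1) ∧
      m0 = bv (Sum.inr 0) ∧ m1 = bv (Sum.inr 1) := ⟨_, _, _, _, rfl, rfl, rfl, rfl⟩
  have v01 : B l0 l1 = 0 := by rw [hl0, hl1, (bv_vals _ _).1]
  have v0m : B l0 m1 = 0 := by rw [hl0, hm1, (bv_vals _ _).2.2.1]; simp
  have v1m : B l1 m1 = -1 := by rw [hl1, hm1, (bv_vals _ _).2.2.1]; simp
  have vm1 : B m1 l1 = 1 := by rw [B_skew, v1m, neg_neg]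
  have vm0 : B m1 l0 = 0 := by rw [B_skew, v0m, neg_zero]
  have v10 : B l1 l0 = 0 := by rw [B_skew, v01, neg_zero]
  have hR0 : Rat F₀ l0 := hl0 ▸ rat_bv _
  have hR1 : Rat F₀ l1 := hl1 ▸ rat_bv _
  have hRm : Rat F₀ m1 := hm1 ▸ rat_bv _
  have hmul : ∀ {a b}, a ∈ X → b ∈ X → a * b ∈ X := by
    intro a b ha hb
    have h1 : N l0 (l1 + (a * B l1 m1) • m1) 1 ∈ M := by
      have hk := ha m1 hRm
      have h := M.mul_mem (M.mul_mem hk (S.N_rat hR0 hR1 (one_mem _))) (M.inv_mem hk)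
      rwa [conj_N (S.le hk), T_fix _ v0m, T_apply] at h
    have h2 : N l0 (m1 + (b * B m1 l1) • l1) 1 ∈ M := by
      have hk := hb l1 hR1
      have h := M.mul_mem (M.mul_mem hk (S.N_rat hR0 hRm (one_mem _))) (M.inv_mem hk)
      rwa [conj_N (S.le hk), T_fix _ v01, T_apply] at h
    have h := hX hR0 (by rw [hl0, bv]; simp)
      (commutator_mem (by simp [v01, v0m]) (by simp [v01, v0m]) h1 h2)
    have e : 8 * 1 * 1 * B (m1 + (b * B m1 l1) • l1) (l1 + (a * B l1 m1) • m1) = 8 * (1 + a * b) := by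
      simp only [map_add, map_smul, LinearMap.add_apply, LinearMap.smul_apply, smul_eq_mul, B_self, v1m, vm1]
      ring
    rw [e] at h
    have h8 : (8 : F) ≠ 0 := by
      rw [show (8 : F) = 2 * 2 * 2 by norm_num]; exact mul_ne_zero (mul_ne_zero S.two S.two) S.two
    have h' := hadd (hsc h (inv_mem (ofNat_mem F₀ 8))) (hF₀ (neg_mem (one_mem _)))
    convert h' using 1
    rw [← mul_assoc, inv_mul_cancel₀ h8]
    ring
  let D : Subalgebra F₀ F :=
    { carrier := X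
      add_mem' := fun {x y} hx hy => hadd hx hy
      mul_mem' := fun {x y} hx hy => hmul hx hy
      algebraMap_mem' := fun t => hF₀ t.2 }
  have hrank : Module.finrank F₀ F = r := by
    have h1 := Module.natCard_eq_pow_finrank (K := F₀) (V := F)
    rw [S.card] at h1
    exact (Nat.pow_right_injective (Finite.one_lt_card (α := F₀)) h1).symm
  haveI := Subalgebra.isSimpleOrder_of_finrank_prime F₀ F (hrank ▸ S.prime)
  have hall : ∀ a, a ∈ X := by
    rcases eq_bot_or_eq_top D with h | h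
    · exact absurd (by
        have hc' : c ∈ D := hX hv hv0 hT
        rw [h, Algebra.mem_bot] at hc'
        obtain ⟨t, rfl⟩ := hc'
        exact t.2) hc
    · exact fun a => (show a ∈ D by rw [h]; exact Algebra.mem_top)
  have hfull : ∀ w : Vec, Rat F₀ w → Full M w := fun w hw a => hall a w hw
  refine spGL_le_of_five S.le (E₁ := l0) (E₂ := l1) (F₁ := m0) (F₂ := m1) (fun v => ?_) ?_ ?_ v01 ?_ v0m ?_
    (hfull _ hR0) (hfull _ hR1) (hfull _ (hm0 ▸ rat_bv _)) (hfull _ hRm) one_ne_zero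
    (hfull _ (by rw [one_smul]; exact rat_add hR0 hR1))
  · exact ⟨_, _, _, _, by rw [hl0, hl1, hm0, hm1]; exact vec_eq v⟩
  · rw [hl0, hm0, (bv_vals _ _).2.2.1]; simp
  · rw [v1m]; simp
  · rw [hm0, hm1, (bv_vals _ _).2.1]
  · rw [hl1, hm0, (bv_vals _ _).2.2.1]; simp

variable (hng : ∀ v : Fin 2 ⊕ Fin 2 → F, Rat F₀ v → v ≠ 0 → ∀ c : F, T v c ∈ M → c ∈ F₀)
include hng

/-- A centre orthogonal to a rational vector. -/
theorem perp {a : Vec} (hT : T a 1 ∈ M) {x b b' : Vec} (hx : Rat F₀ x) (hx0 : x ≠ 0) (hax : B x a = 0)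
    (hb : Rat F₀ b) (hxb : B x b = 0) (hb' : Rat F₀ b') (hxb' : B x b' = 0) : B b a * B b' a ∈ F₀ := by
  have h1 : N x (b + B b a • a) 1 ∈ M := by
    have h := M.mul_mem (M.mul_mem hT (S.N_rat hx hb (one_mem _))) (M.inv_mem hT)
    rwa [conj_N (S.le hT), T_fix _ hax, T_apply, one_mul] at h
  have h2 := hng x hx hx0 _ (commutator_mem (by simp [hxb, hax]) hxb' h1 (S.N_rat hx hb' (one_mem _)))
  have h8 : (8 : F) ≠ 0 := by
    rw [show (8 : F) = 2 * 2 * 2 by norm_num]; exact mul_ne_zero (mul_ne_zero S.two S.two) S.two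
  have h3 : B b' b + B b a * B b' a ∈ F₀ := by
    have := mul_mem (inv_mem (ofNat_mem F₀ 8)) h2
    rwa [mul_one, mul_one, map_add, map_smul, smul_eq_mul, ← mul_assoc, inv_mul_cancel₀ h8, one_mul] at this
  simpa using sub_mem h3 (rat_B hb' hb)

/-- All products of coordinates are rational. -/
theorem products [Fintype F] {a : Vec} (hodd3 : r ≠ 2) (hT : T a (-1) ∈ M) {y y' : Vec} (hy : Rat F₀ y)
    (hy' : Rat F₀ y') : B a y * B a y' ∈ F₀ := by
  obtain ⟨p, hchar⟩ := CharP.exists F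
  haveI := hchar
  haveI hp : Fact p.Prime := ⟨CharP.char_is_prime F p⟩
  have hp2 : p ≠ 2 := fun e => S.two (by subst e; exact_mod_cast CharP.cast_eq_zero F 2)
  have hsqm : ∀ {y : Vec}, Rat F₀ y → B a y * B a y ∈ F₀ := by
    intro y hy
    rcases eq_or_ne (B a y) 0 with h0 | h0
    · rw [h0, mul_zero]; exact zero_mem _
    by_contra hl
    have hy0 : y ≠ 0 := fun e => h0 (by rw [e, map_zero])
    refine hl (hng y hy hy0 _ (irrational_of_pencil (p := p) hp2 (fun s hs => hs ▸ S.T_rat hy (one_mem _)) hT rfl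
      h0 fun h => hl ?_))
    -- a fourth root of one in an extension of odd degree
    obtain ⟨l, hld⟩ : ∃ l, l = B a y * B a y := ⟨_, rfl⟩
    rw [← hld] at h ⊢
    have hrodd : Odd r := S.prime.odd_of_ne_two hodd3
    haveI : Fintype F₀ := Fintype.ofFinite _
    obtain ⟨s, hs⟩ : IsSquare (-1 : F₀) := by
      rw [FiniteField.isSquare_neg_one_iff]
      intro h4
      have hF : IsSquare (-1 : F) := ⟨l, h.2.symm⟩
      rw [FiniteField.isSquare_neg_one_iff] at hF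
      refine hF ?_
      have hc := S.card
      rw [Nat.card_eq_fintype_card, Nat.card_eq_fintype_card] at hc
      obtain ⟨j, hj⟩ := hrodd
      rw [hc, hj, pow_succ, pow_mul, Nat.mul_mod, Nat.pow_mod, Nat.pow_mod (Fintype.card F₀), h4]
      simp
    have hs' : (s : F) * s = l * l := by rw [h.2]; exact (congrArg Subtype.val hs).symm
    rcases mul_self_eq_mul_self_iff.1 hs' with e | e
    · exact e ▸ s.2
    · exact neg_mem_iff.1 (e ▸ s.2)
  have h1 := hsqm (rat_add hy hy')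
  rw [map_add] at h1
  have h2 := sub_mem (sub_mem h1 (hsqm hy)) (hsqm hy')
  have h3 := mul_mem (inv_mem (ofNat_mem F₀ 2)) h2
  convert h3 using 1
  have := S.two
  field_simp
  ring

/-- Centres are rational up to a scalar. -/
theorem rat_centre [Fintype F] {g : GL4} (hg : g ∈ M) {x : Vec} (hx : Rat F₀ x) (hx0 : x ≠ 0) :
    ∃ l : F, l ≠ 0 ∧ Rat F₀ (l • act g x) := by
  classical
  obtain ⟨a, ha⟩ : ∃ a, a = act g x := ⟨_, rfl⟩
  have ha0 : a ≠ 0 := ha ▸ act_ne_zero g hx0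
  rw [← ha]
  have hTa : ∀ {c}, c ∈ F₀ → T a c ∈ M := fun {c} hc => by
    rw [ha, ← T_conj (S.le hg)]
    exact M.mul_mem (M.mul_mem hg (S.T_rat hx hc)) (M.inv_mem hg)
  by_cases hr : r = 2
  swap
  · obtain ⟨i, hi⟩ : ∃ i, a i ≠ 0 := Function.ne_iff.1 ha0
    refine ⟨a i, hi, fun j => ?_⟩
    have hc : ∀ i, ∃ y, Rat F₀ y ∧ a i = B a y := by
      rintro (i | i)
      · exact ⟨-bv (Sum.inr i), fun k => neg_mem (rat_bv _ k), by rw [map_neg, (B_bv a i).2, neg_neg]⟩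
      · exact ⟨bv (Sum.inl i), rat_bv _, ((B_bv a i).1).symm⟩
    obtain ⟨y, hy, e⟩ := hc i
    obtain ⟨y', hy', e'⟩ := hc j
    rw [Pi.smul_apply, smul_eq_mul, e, e']
    exact S.products hng hr (hTa (neg_mem (one_mem _))) hy hy'
  -- a rational vector orthogonal to the centre
  obtain ⟨x₀, hx₀, hx₀0, hax⟩ : ∃ x₀, Rat F₀ x₀ ∧ x₀ ≠ 0 ∧ B x₀ a = 0 := by
    haveI : Fintype F₀ := Fintype.ofFinite _
    let φ : (I4 → F₀) → F := fun v => B (fun i => (v i : F)) a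
    have hlt : Fintype.card F < Fintype.card (I4 → F₀) := by
      have hc := S.card
      rw [Nat.card_eq_fintype_card, Nat.card_eq_fintype_card, hr] at hc
      rw [hc, Fintype.card_fun, show Fintype.card I4 = 4 from rfl]
      exact Nat.pow_lt_pow_right (Fintype.one_lt_card) (by norm_num)
    obtain ⟨u, v, huv, he⟩ := Fintype.exists_ne_map_eq_of_card_lt φ hlt
    refine ⟨(fun i => (u i : F)) - fun i => (v i : F), fun i => sub_mem (u i).2 (v i).2,
      fun h => huv (funext fun i => Subtype.ext (sub_eq_zero.1 (congrFun h i))), ?_⟩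
    rw [map_sub, LinearMap.sub_apply]
    exact sub_eq_zero.2 he
  obtain ⟨k, hk, hkx, hkR⟩ := S.move hx₀ (rat_bv (Sum.inl 0)) hx₀0 (by simp [bv])
  obtain ⟨b, hbd⟩ : ∃ b, b = act k a := ⟨_, rfl⟩
  have hTb : T b 1 ∈ M := by
    rw [hbd, ← T_conj (S.le hk)]
    exact M.mul_mem (M.mul_mem hk (hTa (one_mem _))) (M.inv_mem hk)
  suffices hb : ∃ l : F, l ≠ 0 ∧ Rat F₀ (l • b) by
    obtain ⟨l, hl, hlb⟩ := hb
    have hinv : ∀ w, Rat F₀ w → Rat F₀ (act k⁻¹ w) := by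
      intro w hw
      let ψ : {v : Vec // Rat F₀ v} → {v : Vec // Rat F₀ v} := fun v => ⟨_, hkR v.1 v.2⟩
      have hinj : Function.Injective ψ := fun p q hpq => Subtype.ext (by
        rw [← act_inv k p.1, ← act_inv k q.1]; exact congrArg (act k⁻¹) (congrArg Subtype.val hpq))
      obtain ⟨⟨p, hp⟩, hpw⟩ := Finite.injective_iff_surjective.1 hinj ⟨w, hw⟩
      rw [← show act k p = w from congrArg Subtype.val hpw, act_inv]
      exact hp
    refine ⟨l, hl, ?_⟩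
    have := hinv _ hlb
    rwa [map_smul, hbd, act_inv] at this
  have hb0 : b ≠ 0 := hbd ▸ act_ne_zero k ha0
  obtain ⟨e, he⟩ : ∃ e : Vec, e = bv (Sum.inl 0) := ⟨_, rfl⟩
  have hRe : Rat F₀ e := he ▸ rat_bv _
  have hb1 : b (Sum.inr 0) = 0 := by
    have h : B (act k x₀) (act k a) = 0 := by rw [mem_sp_iff.1 (S.le hk), hax]
    rw [hkx, ← hbd, B_skew, (B_bv b 0).1, neg_eq_zero] at h
    exact h
  have hbe : B e b = 0 := by rw [B_skew, he, (B_bv b 0).1, hb1, neg_zero]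
  obtain ⟨a1, ha1⟩ : ∃ a1, a1 = b (Sum.inl 0) := ⟨_, rfl⟩
  obtain ⟨a2, ha2⟩ : ∃ a2, a2 = b (Sum.inl 1) := ⟨_, rfl⟩
  obtain ⟨d2, hd2⟩ : ∃ d2, d2 = b (Sum.inr 1) := ⟨_, rfl⟩
  have hne : e ≠ 0 := by simp [he, bv]
  have p1 : ∀ {y y' : Vec}, Rat F₀ y → B e y = 0 → Rat F₀ y' → B e y' = 0 → B y b * B y' b ∈ F₀ :=
    fun hy h1 hy' h2 => S.perp hng hTb hRe hne hbe hy h1 hy' h2
  have w1 : B e (bv (Sum.inl 1)) = 0 := by rw [he, (bv_vals _ _).1]
  have w2 : B e (bv (Sum.inr 1)) = 0 := by rw [he, (bv_vals _ _).2.2.1]; simp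
  have v1 : B (bv (F := F) (Sum.inl 1)) b = -d2 := by rw [B_skew, (B_bv b 1).1, hd2]
  have v2 : B (bv (F := F) (Sum.inr 1)) b = a2 := by rw [B_skew, (B_bv b 1).2, ha2, neg_neg]
  have q1 := p1 (rat_bv _) w1 (rat_bv _) w1
  have q2 := p1 (rat_bv _) w2 (rat_bv _) w2
  have q3 := p1 (rat_bv _) w1 (rat_bv _) w2
  rw [v1, neg_mul_neg] at q1
  rw [v2] at q2
  rw [v1, v2, neg_mul, neg_mem_iff] at q3
  by_cases hzero : a2 = 0 ∧ d2 = 0
  · refine ⟨a1⁻¹, inv_ne_zero fun h => hb0 ?_, ?_⟩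
    · rw [vec_eq b, ← ha1, ← ha2, ← hd2, hb1, h, hzero.1, hzero.2]; simp
    · intro i
      rw [Pi.smul_apply, smul_eq_mul]
      rcases i with i | i <;> fin_cases i
      · show a1⁻¹ * b (Sum.inl 0) ∈ F₀
        rcases eq_or_ne a1 0 with h | h
        · rw [← ha1, h, mul_zero]; exact zero_mem _
        · rw [← ha1, inv_mul_cancel₀ h]; exact one_mem _
      · show a1⁻¹ * b (Sum.inl 1) ∈ F₀
        rw [← ha2, hzero.1, mul_zero]; exact zero_mem _
      · show a1⁻¹ * b (Sum.inr 0) ∈ F₀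
        rw [hb1, mul_zero]; exact zero_mem _
      · show a1⁻¹ * b (Sum.inr 1) ∈ F₀
        rw [← hd2, hzero.2, mul_zero]; exact zero_mem _
  obtain ⟨κ, hκ0, hκ⟩ : ∃ κ : F, κ ≠ 0 ∧ κ * κ ∈ F₀ ∧ κ * a2 ∈ F₀ ∧ κ * d2 ∈ F₀ := by
    by_cases h : a2 = 0
    · exact ⟨d2, fun h' => hzero ⟨h, h'⟩, q1, by rw [h, mul_zero]; exact zero_mem _, q1⟩
    · exact ⟨a2, h, q2, q2, by rwa [mul_comm]⟩
  obtain ⟨hκ2, hκa, hκd⟩ := hκ
  -- the rational vector in the plane
  obtain ⟨m, hm⟩ : ∃ m : Vec, m = (κ * a2) • bv (Sum.inl 1) + (κ * d2) • bv (Sum.inr 1) := ⟨_, rfl⟩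
  have hRm : Rat F₀ m := hm ▸ rat_add ((rat_bv _).smul hκa) ((rat_bv _).smul hκd)
  obtain ⟨f0, hf0⟩ : ∃ f0 : Vec, f0 = bv (Sum.inr 0) := ⟨_, rfl⟩
  have hRf : Rat F₀ f0 := hf0 ▸ rat_bv _
  have hfb : B f0 b = a1 := by rw [B_skew, hf0, (B_bv b 0).2, ha1, neg_neg]
  have hef : B e f0 = -1 := by rw [he, hf0, (bv_vals _ _).2.2.1]; simp
  have hem : B e m = 0 := by simp [hm, w1, w2]
  have hfm : B f0 m = 0 := by
    rw [hm, map_add, map_smul, map_smul, hf0, (bv_vals _ _).2.2.2, (bv_vals _ _).2.1]; simp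
  obtain ⟨w, hRw, hwe, hwm⟩ : ∃ w : Vec, Rat F₀ w ∧ B w e = 0 ∧ B w m = -1 := by
    have g1 : B (bv (F := F) (Sum.inl 1)) e = 0 := by rw [he, (bv_vals _ _).1]
    have g2 : B (bv (F := F) (Sum.inr 1)) e = 0 := by rw [he, (bv_vals _ _).2.2.2]; simp
    by_cases h : κ * d2 = 0
    · have h' : κ * a2 ≠ 0 := fun h' => hzero
        ⟨(mul_eq_zero.1 h').resolve_left hκ0, (mul_eq_zero.1 h).resolve_left hκ0⟩
      refine ⟨(-(κ * a2)⁻¹) • bv (Sum.inr 1), (rat_bv _).smul (neg_mem (inv_mem hκa)), by simp [g2], ?_⟩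
      simp only [hm, map_add, map_smul, LinearMap.smul_apply, smul_eq_mul, (bv_vals _ _).2.2.2,
        (bv_vals _ _).2.1, h]
      simp
      rw [← _root_.mul_inv_rev, mul_inv_cancel₀ h']
    · refine ⟨(κ * d2)⁻¹ • bv (Sum.inl 1), (rat_bv _).smul (inv_mem hκd), by simp [g1], ?_⟩
      simp only [hm, map_add, map_smul, LinearMap.smul_apply, smul_eq_mul, (bv_vals _ _).1,
        (bv_vals _ _).2.2.1]
      simp
      rw [← _root_.mul_inv_rev, mul_inv_cancel₀ h]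
  have hb : b = a1 • e + κ⁻¹ • m := by
    conv_lhs => rw [vec_eq b]
    rw [← ha1, ← ha2, ← hd2, hb1, hm, he]
    match_scalars <;> field_simp
  have hm0 : m ≠ 0 := fun h => by simp [h] at hwm
  have hmb : B m b = 0 := by
    rw [hb, map_add, map_smul, map_smul, B_self, B_skew m e, hem]; simp
  have hmf : B m f0 = 0 := by rw [B_skew, hfm, neg_zero]
  have s1 := S.perp hng hTb hRm hm0 hmb hRf hmf hRf hmf
  rw [hfb] at s1
  have hx2 : B (e + m) b = 0 := by rw [map_add, LinearMap.add_apply, hbe, hmb, add_zero]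
  have hx2f : B (e + m) (f0 + w) = 0 := by
    simp only [map_add, LinearMap.add_apply, hef, B_skew m f0, hfm, B_skew m w, hwm, B_skew e w, hwe]
    ring
  have hx20 : e + m ≠ 0 := fun h => by
    have e' := congrArg (fun v => B v f0) h
    simp [hef, hmf] at e'
  have s2 := S.perp hng hTb (rat_add hRe hRm) hx20 hx2 (rat_add hRf hRw) hx2f (rat_add hRf hRw) hx2f
  have hwb : B (f0 + w) b = a1 - κ⁻¹ := by
    rw [map_add, LinearMap.add_apply, hfb, hb, map_add, map_smul, map_smul, hwe, hwm]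
    simp; ring
  rw [hwb] at s2
  have s3 : κ⁻¹ * κ⁻¹ ∈ F₀ := by rw [← _root_.mul_inv]; exact inv_mem hκ2
  have s4 : a1 * κ⁻¹ ∈ F₀ := by
    have h := mul_mem (inv_mem (ofNat_mem F₀ 2)) (sub_mem (add_mem s1 s3) s2)
    convert h using 1
    have := S.two
    field_simp
    ring
  refine ⟨κ, hκ0, ?_⟩
  rw [hb, smul_add, smul_smul, smul_smul, mul_inv_cancel₀ hκ0, one_smul]
  refine rat_add (hRe.smul ?_) hRm
  have := mul_mem hκ2 s4
  convert this using 1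
  field_simp

/-- Elements are rational up to a scalar. -/
theorem rational [Fintype F] {g : GL4} (hg : g ∈ M) : RatUpTo F₀ g := by
  classical
  have hall := fun {x : Vec} (hx : Rat F₀ x) (hx0 : x ≠ 0) => S.rat_centre hng hg hx hx0
  have hb0 : ∀ i, bv (F := F) i ≠ 0 := fun i => by simp [bv]
  obtain ⟨l₀, hl₀, hR₀⟩ := hall (rat_bv (Sum.inl 0)) (hb0 _)
  refine ⟨l₀, hl₀, fun i j => ?_⟩
  obtain ⟨l, hl, hR⟩ := hall (rat_bv j) (hb0 _)
  obtain ⟨z, hz, hz1, hz2⟩ := exists_both (F₀ := F₀) (hb0 (Sum.inl 0)) (hb0 j)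
  obtain ⟨lz, hlz, hRz⟩ := hall hz (fun h => hz1 (by rw [h, map_zero]))
  have hprod : ∀ {u : Vec} {s : F}, Rat F₀ u → Rat F₀ (s • act g u) → B u z ≠ 0 → s * lz ∈ F₀ := by
    intro u s hu hs huz
    have h := mul_mem (rat_B hs hRz) (inv_mem (rat_B hu hz))
    simp only [map_smul, LinearMap.smul_apply, smul_eq_mul, mem_sp_iff.1 (S.le hg)] at h
    field_simp at h
    rwa [mul_comm] at h
  have h3 := div_mem (hprod (rat_bv _) hR₀ hz1) (hprod (rat_bv _) hR hz2)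
  rw [mul_div_mul_right _ _ hlz] at h3
  have h4 := mul_mem h3 (hR i)
  rw [Pi.smul_apply, smul_eq_mul, ← mul_assoc, div_mul_cancel₀ _ hl] at h4
  simpa [act, bv, mulVec_single_one] using h4

omit hng in
/-- The overgroups. -/
theorem top [Fintype F] {g : GL4} (hg : g ∈ M) (hgn : ¬ RatUpTo F₀ g) : Cfsg.spGL 2 F ≤ M := by
  by_contra htop
  refine hgn (S.rational (fun v hv hv0 c hT => ?_) hg)
  by_contra hc
  exact htop (S.top_of_good hv hv0 hc hT)

end Sub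

end Cfsg.Agent.Lib.SpFourOdd96
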