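import Cfsg.Agent.Lib.SpFourOdd96.SubfieldCore
import Cfsg.Agent.Lib.SpFourOdd96.Rows
import Cfsg.Agent.Lib.SubfieldMax.Mem
import Cfsg.Agent.Lib.Elusive19.Pauli4.Symp

/-!
The subfield subgroups of `Sp₄` in odd characteristic are maximal.
-/

set_option autoImplicit false

namespace Cfsg.Agent.Lib.SpFourOdd96

open Matrix Cfsg.Agent.Lib.SubfieldMax.Linear Cfsg.Agent.Lib.SubfieldMax.Form
  Cfsg.Agent.Lib.SubfieldMax.Mem Cfsg.Agent.Lib.Elusive19.Pauli4

variable {F : Type*} [Field F]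

local notation "I4" => Fin 2 ⊕ Fin 2
local notation "Vec" => Fin 2 ⊕ Fin 2 → F
local notation "GL4" => GL (Fin 2 ⊕ Fin 2) F

/-- A rational structure can be made symplectic by a rational change of basis. -/
theorem exists_std_structure (h2 : (2 : F) ≠ 0) {F₀ : Subfield F} {P : GL4} {ζ : F} (hζ : ζ ≠ 0)
    (hP : Cfsg.Geo.IsFormRationalStructure (Cfsg.sympForm 2 F) F₀ ζ P) :
    ∃ P₁ : GL4, P₁ ∈ Cfsg.Geo.subfieldSubgroup F₀ 1 ∧
      ∀ u v : Vec, ζ * B (act (P * P₁) u) (act (P * P₁) v) = B u v := by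
  classical
  let β : Vec → Vec → F := fun u v => ζ * B (act P u) (act P v)
  have βr : ∀ {u v}, Rat F₀ u → Rat F₀ v → β u v ∈ F₀ := fun hu hv => hP _ _ hu hv
  have βs : ∀ u v, β u v = -β v u := fun u v => by simp only [β]; rw [B_skew]; ring
  have βself : ∀ u, β u u = 0 := fun u => by simp [β]
  have βadd : ∀ u v w, β (u + v) w = β u w + β v w := fun u v w => by simp [β]; ring
  have βsub : ∀ u v w, β (u - v) w = β u w - β v w := fun u v w => by simp [β]; ring
  have βsm : ∀ (c : F) u w, β (c • u) w = c * β u w := fun c u w => by simp [β]; ring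
  have βsm' : ∀ (c : F) u w, β u (c • w) = c * β u w := fun c u w => by simp [β]; ring
  have βsub' : ∀ u v w, β u (v - w) = β u v - β u w := fun u v w => by simp [β]; ring
  have βadd' : ∀ u v w, β u (v + w) = β u v + β u w := fun u v w => by simp [β]; ring
  have hone : ∀ {u : Vec}, u ≠ 0 → ∃ i, β u (bv i) ≠ 0 := by
    intro u hu
    by_contra h
    push Not at h
    refine act_ne_zero P hu (B_nondeg fun w => ?_)
    obtain ⟨w', rfl⟩ : ∃ w', act P w' = w := ⟨_, act_inv' P w⟩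
    have h' : ∀ i, B (act P u) (act P (bv i)) = 0 := fun i => (mul_eq_zero.1 (h i)).resolve_left hζ
    rw [vec_eq w']
    simp [h']
  obtain ⟨u0, hu0, hu0r⟩ : ∃ u : Vec, u ≠ 0 ∧ Rat F₀ u := ⟨bv (Sum.inl 0), by simp [bv], rat_bv _⟩
  obtain ⟨i0, hi0⟩ := hone hu0
  obtain ⟨v0, hv0d⟩ : ∃ v0, v0 = (β u0 (bv i0))⁻¹ • bv (F := F) i0 := ⟨_, rfl⟩
  have hv0r : Rat F₀ v0 := hv0d ▸ (rat_bv i0).smul (inv_mem (βr hu0r (rat_bv i0)))
  have h00 : β u0 v0 = 1 := by rw [hv0d, βsm', inv_mul_cancel₀ hi0]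
  have h00' : β v0 u0 = -1 := by rw [βs, h00]
  -- projection off the first plane
  let π : Vec → Vec := fun w => w - β w v0 • u0 + β w u0 • v0
  have πr : ∀ {w}, Rat F₀ w → Rat F₀ (π w) := fun hw =>
    rat_add (hw.sub (hu0r.smul (βr hw hv0r))) (hv0r.smul (βr hw hu0r))
  have π0 : ∀ w, β (π w) u0 = 0 ∧ β (π w) v0 = 0 := fun w => by
    simp [π, βadd, βsub, βsm, βself, h00, h00']
  obtain ⟨j, hj⟩ : ∃ j, π (bv j) ≠ 0 := by
    by_contra h
    push Not at h
    have hall : ∀ w : Vec, π w = 0 := by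
      intro w
      have hlin : π w = w (Sum.inl 0) • π (bv (Sum.inl 0)) + w (Sum.inl 1) • π (bv (Sum.inl 1)) +
          w (Sum.inr 0) • π (bv (Sum.inr 0)) + w (Sum.inr 1) • π (bv (Sum.inr 1)) := by
        conv_lhs => rw [vec_eq w]
        simp only [π, βadd, βsm]
        module
      rw [hlin, h, h, h, h]; simp
    have hle : (⊤ : Submodule F Vec) ≤ Submodule.span F {u0, v0} := fun w _ => by
      rw [show w = β w v0 • u0 + -β w u0 • v0 by
        have := hall w
        simp only [π] at this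
        linear_combination (norm := module) this]
      exact Submodule.mem_span_pair.2 ⟨_, _, rfl⟩
    have h1 := Submodule.finrank_mono hle
    rw [finrank_top, Module.finrank_fintype_fun_eq_card] at h1
    have h3 : Module.finrank F (Submodule.span F {u0, v0}) ≤ 2 := by
      rw [show ({u0, v0} : Set Vec) = Set.range ![u0, v0] by simp [Matrix.range_cons, Matrix.range_empty,
        Set.pair_comm]]
      exact (finrank_range_le_card _).trans (by simp)
    simp at h1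
    omega
  obtain ⟨u1, hu1d⟩ : ∃ u1, u1 = π (bv j) := ⟨_, rfl⟩
  have hu1r : Rat F₀ u1 := hu1d ▸ πr (rat_bv j)
  rw [← hu1d] at hj
  obtain ⟨i1, hi1⟩ := hone hj
  have g1 : β u1 u0 = 0 ∧ β u1 v0 = 0 := hu1d ▸ π0 _
  obtain ⟨v1, hv1d⟩ : ∃ v1, v1 = (β u1 (bv i1))⁻¹ • π (bv i1) := ⟨_, rfl⟩
  have hv1r : Rat F₀ v1 := hv1d ▸ (πr (rat_bv i1)).smul (inv_mem (βr hu1r (rat_bv i1)))
  have h11 : β u1 v1 = 1 := by
    rw [hv1d, βsm']
    simp only [π, βadd', βsub', βsm', g1.1, g1.2, mul_zero, sub_zero, add_zero]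
    exact inv_mul_cancel₀ hi1
  have h10 : β u0 v1 = 0 ∧ β v0 v1 = 0 := by
    have := π0 (bv i1)
    constructor <;> rw [hv1d, βsm', βs _ (π (bv i1))] <;> simp [this]
  have hβsp : ∀ u v : Vec, β u v = ζ * Cfsg.sympForm 2 F (act P u) (act P v) := fun _ _ => rfl
  let uu : Fin 2 → Vec := ![u0, u1]
  let vv : Fin 2 → Vec := ![v0, v1]
  let col : I4 → Vec := Sum.elim vv uu
  have hcol : ∀ i, Rat F₀ (col i) := by
    rintro (i | i) <;> fin_cases i
    exacts [hv0r, hv1r, hu0r, hu1r]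
  have hgram : ∀ i j, β (col i) (col j) = Matrix.J (Fin 2) F i j := by
    have e01 : β u0 u1 = 0 := by rw [βs, g1.1, neg_zero]
    have e10 : β v0 u1 = 0 := by rw [βs, g1.2, neg_zero]
    have q0 : β v1 u0 = 0 := by rw [βs, h10.1, neg_zero]
    have q1 : β v1 v0 = 0 := by rw [βs, h10.2, neg_zero]
    have q2 : β v1 u1 = -1 := by rw [βs, h11]
    rintro (i | i) (k | k) <;> fin_cases i <;> fin_cases k <;>
      simp [col, uu, vv, Matrix.J, βself, h00, h00', h11, h10.1, h10.2, g1.1, g1.2, e01, e10, q0, q1, q2]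
  let L : Vec →ₗ[F] Vec := Matrix.mulVecLin (Matrix.of fun a i => col i a)
  have hL : ∀ i, L (bv i) = col i := fun i => by
    funext a; simp [L, bv]
  have hLB : ∀ u v, β (L u) (L v) = B u v := by
    intro u v
    conv_lhs => rw [vec_eq u, vec_eq v]
    conv_rhs => rw [vec_eq u, vec_eq v]
    have hB : ∀ i k, B (bv (F := F) i) (bv k) = Matrix.J (Fin 2) F i k := fun i k => by
      simp [B_apply, Cfsg.sympForm, bv]
    simp only [map_add, map_smul, hL, βadd, βadd', βsm, βsm', hgram, hB, LinearMap.add_apply,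
      LinearMap.smul_apply, smul_eq_mul]
    ring
  have hinj : Function.Injective L := by
    rw [← LinearMap.ker_eq_bot, LinearMap.ker_eq_bot']
    intro u hu
    refine B_nondeg fun v => ?_
    rw [← hLB, hu]
    simp [β]
  have hu : IsUnit (Matrix.of fun a i => col i a : Matrix I4 I4 F) :=
    Matrix.mulVec_injective_iff_isUnit.mp hinj
  refine ⟨hu.unit, (mem_sub_one_iff F₀ _).2 ⟨1, one_ne_zero, fun i j => ?_⟩, fun u v => ?_⟩
  · rw [one_mul, IsUnit.unit_spec]; exact hcol j i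
  · have : ∀ w, act (P * hu.unit) w = act P (L w) := fun w => by
      rw [act_mul]; rfl
    rw [this, this]
    exact hLB u v

theorem subfield_maximal [Fintype F] (hodd : Odd (Fintype.card F)) (F₀ : Subfield F) (r : ℕ)
    (P : GL4) (ζ : F) (hr : r.Prime) (hcard : Fintype.card F = Nat.card F₀ ^ r) (hζ : ζ ≠ 0)
    (hP : Cfsg.Geo.IsFormRationalStructure (Cfsg.sympForm 2 F) F₀ ζ P) :
    Cfsg.Geo.IsMaximalIn (Cfsg.spGL 2 F) (Cfsg.Geo.subfieldSubgroup F₀ P ⊓ Cfsg.spGL 2 F) := by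
  classical
  have h2 := two_ne_zero' hodd
  obtain ⟨P₁, hP₁, hsim⟩ := exists_std_structure h2 hζ hP
  obtain ⟨P', hP'⟩ : ∃ P', P' = P * P₁ := ⟨_, rfl⟩
  rw [← hP'] at hsim
  let c := (MulAut.conj P').toMonoidHom
  have hc : ∀ y, c y = P' * y * P'⁻¹ := fun y => rfl
  have hcs : ∀ y, c y ∈ Cfsg.spGL 2 F ↔ y ∈ Cfsg.spGL 2 F := by
    intro y
    have hconj : ∀ u, act (c y) (act P' u) = act P' (act y u) := fun u => by
      rw [hc, act_mul, act_mul, act_inv]
    rw [mem_sp_iff, mem_sp_iff]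
    constructor
    · intro h u v
      rw [← hsim u v, ← hsim (act y u), ← hconj, ← hconj, h]
    · intro h u v
      obtain ⟨u, rfl⟩ : ∃ w, act P' w = u := ⟨_, act_inv' P' u⟩
      obtain ⟨v, rfl⟩ : ∃ w, act P' w = v := ⟨_, act_inv' P' v⟩
      refine mul_left_cancel₀ hζ ?_
      rw [hconj, hconj, hsim, hsim, h]
  have hsub : ∀ y, c y ∈ Cfsg.Geo.subfieldSubgroup F₀ P ↔ RatUpTo F₀ y := by
    intro y
    rw [mem_sub_iff, ← mem_sub_one_iff, ← mem_sub_one_iff, hc, hP',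
      show P⁻¹ * (P * P₁ * y * (P * P₁)⁻¹) * P = P₁ * y * P₁⁻¹ by group]
    constructor
    · intro h
      have := mul_mem (mul_mem (inv_mem hP₁) h) hP₁
      rwa [show P₁⁻¹ * (P₁ * y * P₁⁻¹) * P₁ = y by group] at this
    · intro h
      exact mul_mem (mul_mem hP₁ h) (inv_mem hP₁)
  refine Cfsg.Agent.Lib.Subspaces.Transvection.isMaximalIn_of inf_le_right ?_ fun M hHM hMS g hg hgn => ?_
  · obtain ⟨l, hl⟩ : ∃ l : F, l ∉ F₀ := by
      by_contra hall
      push Not at hall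
      have : Nat.card F₀ = Nat.card F := Nat.card_congr (Equiv.subtypeUnivEquiv hall)
      rw [← Nat.card_eq_fintype_card, this] at hcard
      exact hr.ne_one (Nat.pow_right_injective (Finite.one_lt_card (α := F))
        (hcard.symm.trans (pow_one _).symm))
    refine ⟨c (T (bv (Sum.inl 0)) l), (hcs _).2 (T_mem _ _), fun h => hl ?_⟩
    obtain ⟨d, hd, hd'⟩ := (hsub _).1 h.1
    have key : ∀ i j, ((T (bv (Sum.inl 0)) l : GL4) : Matrix I4 I4 F) i j =
        bv j i + l * B (bv j) (bv (Sum.inl 0)) * bv (F := F) (Sum.inl 0) i := fun i j => by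
      have h := congrFun (T_apply (bv (Sum.inl 0)) l (bv j)) i
      simpa [act, bv, mulVec_single_one] using h
    have e1 := hd' (Sum.inl 1) (Sum.inl 1)
    have e2 := hd' (Sum.inl 0) (Sum.inr 0)
    rw [key] at e1 e2
    rw [(bv_vals _ _).1] at e1
    rw [(bv_vals _ _).2.2.2] at e2
    simp [bv] at e1 e2
    have := div_mem e2 e1
    rwa [mul_div_cancel_left₀ _ hd] at this
  have S : Sub F₀ r (M.comap c) := ⟨h2, hr, by rw [Nat.card_eq_fintype_card, hcard],
    fun y hy => (hcs y).1 (hMS hy),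
    fun y hy hrat => hHM ⟨(hsub y).2 ⟨1, one_ne_zero, fun i j => by rw [one_mul]; exact hrat i j⟩, (hcs y).2 hy⟩⟩
  obtain ⟨y, rfl⟩ : ∃ y, c y = g := (MulAut.conj P').surjective g
  have htop := S.top (g := y) hg fun h => hgn ⟨(hsub y).2 h, hMS hg⟩
  intro x hx
  obtain ⟨z, rfl⟩ : ∃ z, c z = x := (MulAut.conj P').surjective x
  exact htop ((hcs z).1 hx)

end Cfsg.Agent.Lib.SpFourOdd96
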