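import Cfsg.Agent.Lib.Subspaces.SympGen

/-!
Transvections of the four-dimensional symplectic space in odd characteristic: two ways of producing one in a
subgroup, and when one centre gives all.
-/

set_option autoImplicit false

namespace Cfsg.Agent.Lib.SpFourOdd96

open Matrix Cfsg.Agent.Lib.Subspaces.Transvection Cfsg.Agent.Lib.Subspaces.FormVec
  Cfsg.Agent.Lib.Subspaces.SympGen

variable {F : Type*} [Field F]

local notation "I4" => Fin 2 ⊕ Fin 2
local notation "Vec" => Fin 2 ⊕ Fin 2 → F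
local notation "GL4" => GL (Fin 2 ⊕ Fin 2) F

/-- The form. -/
noncomputable def B : (I4 → F) →ₗ[F] (I4 → F) →ₗ[F] F := toBilin (sympForm_isSymplectic (F := F) 2)

theorem B_apply (x y : Vec) : B x y = Cfsg.sympForm 2 F x y := rfl

@[simp] theorem B_self (x : Vec) : B x x = 0 := (sympForm_isSymplectic (F := F) 2).alternating x

theorem B_skew (x y : Vec) : B x y = -B y x := (sympForm_isSymplectic (F := F) 2).skew x y

theorem B_nondeg {x : Vec} (h : ∀ y, B x y = 0) : x = 0 :=
  (toBilin_isSymp (sympForm_isSymplectic (F := F) 2)).nondeg x h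

theorem exists_ne {x : Vec} (hx : x ≠ 0) : ∃ y, B x y ≠ 0 := by
  by_contra h
  push Not at h
  exact hx (B_nondeg h)

/-- The action. -/
def act (g : GL4) : Vec →ₗ[F] Vec := Matrix.mulVecLin (g : Matrix I4 I4 F)

theorem act_mul (g h : GL4) (x : Vec) : act (g * h) x = act g (act h x) := gl_mul_mulVec g h x

theorem act_one (x : Vec) : act (1 : GL4) x = x := one_mulVec x

theorem act_inv (g : GL4) (x : Vec) : act g⁻¹ (act g x) = x := gl_inv_mulVec g x

theorem act_inv' (g : GL4) (x : Vec) : act g (act g⁻¹ x) = x := gl_mulVec_inv g x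

theorem act_ne_zero (g : GL4) {x : Vec} (hx : x ≠ 0) : act g x ≠ 0 := fun h => hx (by
  rw [← act_inv g x, h, map_zero])

theorem act_ext {g h : GL4} (H : ∀ x, act g x = act h x) : g = h := gl_ext H

theorem mem_sp_iff {g : GL4} : g ∈ Cfsg.spGL 2 F ↔ ∀ x y, B (act g x) (act g y) = B x y := mem_spGL_iff

/-- The transvection. -/
noncomputable def T (v : Vec) (a : F) : GL4 := tv v (a • formVec (Cfsg.sympForm 2 F) v)

theorem T_apply (v : Vec) (a : F) (x : Vec) : act (T v a) x = x + (a * B x v) • v :=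
  stv_mulVec (sympForm_isSymplectic 2) v a x

theorem T_mem (v : Vec) (a : F) : T v a ∈ Cfsg.spGL 2 F := stv_mem_spGL v a

theorem T_fix {v x : Vec} (a : F) (h : B x v = 0) : act (T v a) x = x := by
  rw [T_apply, h, mul_zero, zero_smul, add_zero]

theorem T_add (v : Vec) (a b : F) : T v a * T v b = T v (a + b) := act_ext fun x => by
  rw [act_mul, T_apply v b, T_apply v a, T_apply, map_add, map_smul, LinearMap.add_apply,
    LinearMap.smul_apply, B_self, smul_zero, add_zero]
  module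

theorem T_zero (v : Vec) : T v 0 = 1 := act_ext fun x => by rw [T_apply, act_one, zero_mul, zero_smul, add_zero]

theorem T_zero_left (a : F) : T (0 : Vec) a = 1 := act_ext fun x => by rw [T_apply, act_one, smul_zero, add_zero]

theorem T_inv (v : Vec) (a : F) : (T v a)⁻¹ = T v (-a) :=
  inv_eq_of_mul_eq_one_right (by rw [T_add, add_neg_cancel, T_zero])

theorem T_smul (v : Vec) (c a : F) : T (c • v) a = T v (c * c * a) := act_ext fun x => by
  rw [T_apply, T_apply, map_smul, smul_eq_mul, smul_smul]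
  congr 2
  ring

theorem T_conj {g : GL4} (hg : g ∈ Cfsg.spGL 2 F) (v : Vec) (a : F) :
    g * T v a * g⁻¹ = T (act g v) a := act_ext fun x => by
  obtain ⟨x, rfl⟩ : ∃ y, act g y = x := ⟨_, act_inv' g x⟩
  rw [act_mul, act_mul, act_inv, T_apply, T_apply, map_add, map_smul, mem_sp_iff.1 hg]

theorem T_comm {v w : Vec} (h : B v w = 0) (a b : F) : Commute (T v a) (T w b) := act_ext fun x => by
  have h' : B w v = 0 := by rw [B_skew, h, neg_zero]
  simp only [act_mul, T_apply, map_add, map_smul, LinearMap.add_apply, LinearMap.smul_apply, h, h',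
    smul_zero, add_zero]
  module

variable {M : Subgroup (GL (Fin 2 ⊕ Fin 2) F)}

/-- The root pair built from two orthogonal centres. -/
noncomputable def N (p a : Vec) (t : F) : GL4 := T (p - a) t * T (p + a) (-t)

theorem N_apply {p a : Vec} (h : B p a = 0) (t : F) (x : Vec) :
    act (N p a t) x = x - (2 * t * B x p) • a - (2 * t * B x a) • p := by
  have h' : B a p = 0 := by rw [B_skew, h, neg_zero]
  rw [N, act_mul, T_apply, T_apply]
  simp only [map_add, map_sub, map_smul, LinearMap.add_apply, LinearMap.sub_apply, LinearMap.smul_apply, h, h',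
    B_self, sub_zero, add_zero, smul_zero]
  module

theorem conj_N {g : GL4} (hg : g ∈ Cfsg.spGL 2 F) (p a : Vec) (t : F) :
    g * N p a t * g⁻¹ = N (act g p) (act g a) t := by
  rw [N, N, ← map_sub, ← map_add, ← T_conj hg, ← T_conj hg]
  group

/-- The commutator of two root pairs through one point. -/
theorem N_commutator {p a b : Vec} (ha : B p a = 0) (hb : B p b = 0) (s t : F) :
    N p a s * N p b t * (N p a s)⁻¹ * (N p b t)⁻¹ = T p (8 * s * t * B b a) := by
  suffices h : N p a s * N p b t = T p (8 * s * t * B b a) * (N p b t * N p a s) by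
    rw [h]; group
  refine act_ext fun x => ?_
  have ha' : B a p = 0 := by rw [B_skew, ha, neg_zero]
  have hb' : B b p = 0 := by rw [B_skew, hb, neg_zero]
  simp only [act_mul, N_apply ha, N_apply hb, T_apply, map_sub, map_smul, LinearMap.sub_apply,
    LinearMap.smul_apply, smul_eq_mul, ha, hb, ha', hb', B_self, B_skew a b, mul_zero, sub_zero,
    zero_smul, smul_zero]
  module

theorem commutator_mem {p a b : Vec} (ha : B p a = 0) (hb : B p b = 0) {s t : F} (h1 : N p a s ∈ M)
    (h2 : N p b t ∈ M) : T p (8 * s * t * B b a) ∈ M :=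
  N_commutator ha hb s t ▸ M.mul_mem (M.mul_mem (M.mul_mem h1 h2) (M.inv_mem h1)) (M.inv_mem h2)

/-- Two families of root pairs with one common central part give a transvection. -/
theorem pair_mem {z a b : Vec} {k k' : F} (hM : M ≤ Cfsg.spGL 2 F) (hza : B z a = 0) (hzb : B z b = 0)
    (hab : B a b ≠ 0) (h1 : ∀ t, T a t * T z (k * t) ∈ M) (h2 : ∀ t, T b t * T z (k' * t) ∈ M)
    {l : F} (hl : l ≠ 0) (hl2 : l * l ≠ 1) : ∃ s, s ≠ 0 ∧ T a s ∈ M := by
  set δ := B a b
  have haz : B a z = 0 := by rw [B_skew, hza, neg_zero]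
  have hbz : B b z = 0 := by rw [B_skew, hzb, neg_zero]
  have hba : B b a = -δ := B_skew b a
  set n : F → GL4 := fun t => T a t * T z (k * t) * (T b (t * (δ * δ))⁻¹ * T z (k' * (t * (δ * δ))⁻¹)) *
    (T a t * T z (k * t))
  have hn : ∀ t, n t ∈ M := fun t => M.mul_mem (M.mul_mem (h1 _) (h2 _)) (h1 _)
  have hnz : ∀ t, act (n t) z = z := fun t => by
    simp only [n, act_mul, T_fix _ hza, T_fix _ hzb, T_fix _ (B_self z)]
  have hna : ∀ t, t ≠ 0 → act (n t) a = (t * δ)⁻¹ • b := fun t ht => by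
    simp only [n, act_mul, T_apply, map_add, map_smul, LinearMap.add_apply, LinearMap.smul_apply,
      smul_eq_mul, B_self, haz, hbz, hba, show B a b = δ from rfl, mul_zero, zero_smul, add_zero, zero_add]
    match_scalars <;> field_simp <;> ring
  have hnb : ∀ t, t ≠ 0 → act (n t) b = (-(t * δ)) • a := fun t ht => by
    simp only [n, act_mul, T_apply, map_add, map_smul, LinearMap.add_apply, LinearMap.smul_apply,
      smul_eq_mul, B_self, haz, hbz, hba, show B a b = δ from rfl, mul_zero, zero_smul, add_zero, zero_add]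
    match_scalars <;> field_simp <;> ring
  set h := n l * n 1
  have hh : h ∈ M := M.mul_mem (hn _) (hn _)
  have ha : act h a = (-l) • a := by
    rw [act_mul, hna 1 one_ne_zero, map_smul, hnb l hl, smul_smul]
    congr 1
    field_simp
  have hz : act h z = z := by rw [act_mul, hnz, hnz]
  refine ⟨l * l - 1, sub_ne_zero.2 hl2, ?_⟩
  have e : h * (T a 1 * T z (k * 1)) * h⁻¹ * (T a 1 * T z (k * 1))⁻¹ = T a (l * l - 1) := by
    rw [show h * (T a 1 * T z (k * 1)) * h⁻¹ = (h * T a 1 * h⁻¹) * (h * T z (k * 1) * h⁻¹) by group,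
      T_conj (hM hh), T_conj (hM hh), ha, hz, T_smul,
      show T a (-l * -l * 1) * T z (k * 1) * (T a 1 * T z (k * 1))⁻¹ = T a (-l * -l * 1) * (T a 1)⁻¹ by group,
      T_inv, T_add]
    congr 1
    ring
  exact e ▸ M.mul_mem (M.mul_mem (M.mul_mem hh (h1 1)) (M.inv_mem hh)) (M.inv_mem (h1 1))

/-- All transvections of a centre. -/
def Full (M : Subgroup GL4) (v : Vec) : Prop := ∀ a : F, T v a ∈ M

theorem full_of_scaling (h2 : (2 : F) ≠ 0) {v : Vec} {s : F} (hs : s ≠ 0) (hM : M ≤ Cfsg.spGL 2 F)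
    (hT : T v s ∈ M) (hscale : ∀ l : F, l ≠ 0 → ∃ h ∈ M, act h v = l • v) : Full M v := by
  have hsq : ∀ l : F, T v (l * l * s) ∈ M := fun l => by
    rcases eq_or_ne l 0 with rfl | hl
    · rw [zero_mul, zero_mul, T_zero]; exact M.one_mem
    obtain ⟨h, hh, hhv⟩ := hscale l hl
    rw [← T_smul, ← hhv, ← T_conj (hM hh)]
    exact M.mul_mem (M.mul_mem hh hT) (M.inv_mem hh)
  intro a
  obtain ⟨x, hx⟩ : ∃ x, x = a / (2 * s) := ⟨_, rfl⟩
  have h := M.mul_mem (M.mul_mem (hsq (x + 1)) (M.inv_mem (hsq x))) (M.inv_mem (hsq 1))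
  rw [T_inv, T_inv, T_add, T_add] at h
  convert h using 2
  rw [hx]
  field_simp
  ring

theorem Full.smul {v : Vec} (h : Full M v) (c : F) : Full M (c • v) := fun a => by rw [T_smul]; exact h _

theorem Full.image {v : Vec} (h : Full M v) {g : GL4} (hM : M ≤ Cfsg.spGL 2 F) (hg : g ∈ M) :
    Full M (act g v) := fun a => by
  rw [← T_conj (hM hg)]
  exact M.mul_mem (M.mul_mem hg (h a)) (M.inv_mem hg)

theorem Full.of_image {v : Vec} {g : GL4} (hM : M ≤ Cfsg.spGL 2 F) (hg : g ∈ M)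
    (h : Full M (act g v)) : Full M v := by
  have := h.image hM (M.inv_mem hg)
  rwa [act_inv] at this

theorem Full.line {a b : Vec} (ha : Full M a) (hb : Full M b) (hM : M ≤ Cfsg.spGL 2 F) (hab : B a b ≠ 0)
    (x y : F) : Full M (x • a + y • b) := by
  rcases eq_or_ne x 0 with rfl | hx
  · rw [zero_smul, zero_add]; exact hb.smul y
  have h := (ha.image hM (hb (y / (x * B a b)))).smul x
  rw [T_apply, smul_add, smul_smul] at h
  convert h using 3
  field_simp

/-- Five centres are enough. -/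
theorem spGL_le_of_five (hM : M ≤ Cfsg.spGL 2 F) {E₁ E₂ F₁ F₂ : Vec}
    (span : ∀ v, ∃ a b c d : F, v = a • E₁ + b • E₂ + c • F₁ + d • F₂)
    (h11 : B E₁ F₁ ≠ 0) (h22 : B E₂ F₂ ≠ 0) (e12 : B E₁ E₂ = 0) (f12 : B F₁ F₂ = 0) (ef : B E₁ F₂ = 0)
    (fe : B E₂ F₁ = 0) (hE₁ : Full M E₁) (hE₂ : Full M E₂) (hF₁ : Full M F₁) (hF₂ : Full M F₂) {β : F}
    (hβ : β ≠ 0) (hk : Full M (E₁ + β • E₂)) : Cfsg.spGL 2 F ≤ M := by
  refine spGL_le fun v a => ?_
  suffices hall : ∀ v, Full M v from hall v a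
  have s12 : B E₂ E₁ = 0 := by rw [B_skew, e12, neg_zero]
  have t12 : B F₂ F₁ = 0 := by rw [B_skew, f12, neg_zero]
  have sef : B F₂ E₁ = 0 := by rw [B_skew, ef, neg_zero]
  have sfe : B F₁ E₂ = 0 := by rw [B_skew, fe, neg_zero]
  -- in one plane
  have plane : ∀ {E G : Vec}, B E G ≠ 0 → Full M E → Full M G → ∀ (a c : F), ¬ (a = 0 ∧ c = 0) → ∀ t : F,
      t ≠ 0 → ∃ g ∈ M, act g (a • E + c • G) = t • E ∧ ∀ z, B z E = 0 → B z G = 0 → act g z = z := by
    intro E G hEG hE hG a c hac t ht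
    obtain ⟨g₀, hg₀, c', hc', hg₀v, hg₀z⟩ : ∃ g ∈ M, ∃ c' : F, c' ≠ 0 ∧ act g (a • E + c • G) = a • E + c' • G ∧
        ∀ z, B z E = 0 → B z G = 0 → act g z = z := by
      rcases eq_or_ne c 0 with rfl | hc
      · have ha : a ≠ 0 := fun h => hac ⟨h, rfl⟩
        refine ⟨T G (a * B E G)⁻¹, hG _, 1, one_ne_zero, ?_, fun z _ h => T_fix _ h⟩
        rw [T_apply, zero_smul, add_zero, map_smul, LinearMap.smul_apply, smul_eq_mul,
          inv_mul_cancel₀ (mul_ne_zero ha hEG)]
      · exact ⟨1, M.one_mem, c, hc, act_one _, fun z _ _ => act_one z⟩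
    have hGE : B G E ≠ 0 := by rw [B_skew]; exact neg_ne_zero.2 hEG
    refine ⟨T G (-c' / (t * B E G)) * T E ((t - a) / (c' * B G E)) * g₀,
      M.mul_mem (M.mul_mem (hG _) (hE _)) hg₀, ?_, fun z h1 h2 => by
        rw [act_mul, act_mul, hg₀z z h1 h2, T_fix _ h1, T_fix _ h2]⟩
    have e1 : act (T E ((t - a) / (c' * B G E))) (a • E + c' • G) = t • E + c' • G := by
      have e : B (a • E + c' • G) E = c' * B G E := by simp
      rw [T_apply, e, div_mul_cancel₀ _ (mul_ne_zero hc' hGE)]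
      module
    have e2 : act (T G (-c' / (t * B E G))) (t • E + c' • G) = t • E := by
      have e : B (t • E + c' • G) G = t * B E G := by simp
      rw [T_apply, e, div_mul_cancel₀ _ (mul_ne_zero ht hEG)]
      module
    rw [act_mul, act_mul, hg₀v, e1, e2]
  intro v
  obtain ⟨a, b, c, d, rfl⟩ := span v
  by_cases h1 : a = 0 ∧ c = 0
  · obtain ⟨rfl, rfl⟩ := h1
    simpa using hE₂.line hF₂ hM h22 b d
  by_cases h2 : b = 0 ∧ d = 0
  · obtain ⟨rfl, rfl⟩ := h2
    simpa using hE₁.line hF₁ hM h11 a c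
  obtain ⟨g, hg, hg1, hg2⟩ := plane h11 hE₁ hF₁ a c h1 1 one_ne_zero
  obtain ⟨k, hk', hk1, hk2⟩ := plane h22 hE₂ hF₂ b d h2 β hβ
  refine Full.of_image hM (M.mul_mem hk' hg) ?_
  have e : act (k * g) (a • E₁ + b • E₂ + c • F₁ + d • F₂) = E₁ + β • E₂ := by
    rw [show a • E₁ + b • E₂ + c • F₁ + d • F₂ = (a • E₁ + c • F₁) + (b • E₂ + d • F₂) by module,
      act_mul, map_add, hg1, hg2, one_smul, map_add, hk1, hk2 _ e12 ef]
    · simp [s12, sef]
    · simp [fe, t12]
  exact e ▸ hk

end Cfsg.Agent.Lib.SpFourOdd96
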